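import Groth.Agent.H82.BigCell.FEq

/-!
# The big cell of a rank-one situation: decompositions and their laws
-/

set_option autoImplicit false
set_option linter.style.haveILetI false
set_option linter.unusedSectionVars false
universe u

open CategoryTheory MonoidalCategory CartesianMonoidalCategory MonObj GrpObj AlgebraicGeometry
open Groth.Agent.Lib.RedPts
open Groth.Agent.H82.RankOne (P P_eq P_add P_zero P_neg P_comp gmPt_eq gmPt_comp)

namespace Groth.Agent.H82.BigCell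

variable {S : Scheme.{u}} {G T : Over S} [GrpObj G] [GrpObj T]

/-- The big cell map `(y, t, x) ↦ pm(y) i(t) pp(x)`. -/
noncomputable abbrev Φ (i : T ⟶ G) (pp pm : Red.Ga S ⟶ G) : (Red.Ga S ⊗ T) ⊗ Red.Ga S ⟶ G :=
  ((pm ⊗ₘ i) ⊗ₘ pp) ≫ (μ[G] ▷ G) ≫ μ[G]

/-- A point of `Ga ⊗ T ⊗ Ga`. -/
noncomputable abbrev trip {X : Over S} (A : Γ(X.left, ⊤)) (B : X ⟶ T) (C : Γ(X.left, ⊤)) :
    X ⟶ (Red.Ga S ⊗ T) ⊗ Red.Ga S :=
  lift (lift (Ga.gaPt A) B) (Ga.gaPt C)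

theorem trip_Φ (i : T ⟶ G) (pp pm : Red.Ga S ⟶ G) {X : Over S} (A : Γ(X.left, ⊤)) (B : X ⟶ T)
    (C : Γ(X.left, ⊤)) : trip A B C ≫ Φ i pp pm = P pm A * (B ≫ i) * P pp C := by
  rw [_root_.mul_assoc]
  simp [Φ, trip, P, Hom.mul_def, lift_map_assoc, lift_map]

/-- `f = pm(A) i(B) pp(C)`. -/
def Cell (i : T ⟶ G) (pp pm : Red.Ga S ⟶ G) {X : Over S} (f : X ⟶ G) (A : Γ(X.left, ⊤))
    (B : X ⟶ T) (C : Γ(X.left, ⊤)) : Prop :=
  f = P pm A * (B ≫ i) * P pp C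

/-- `pp(x) pm(y) = pm(A) i(B) pp(C)`. -/
def Dec (i : T ⟶ G) (pp pm : Red.Ga S ⟶ G) {X : Over S} (x y A : Γ(X.left, ⊤))
    (B : X ⟶ T) (C : Γ(X.left, ⊤)) : Prop :=
  P pp x * P pm y = P pm A * (B ≫ i) * P pp C

/-- The hypotheses of the rank-one commutation formula, in working form. -/
structure Hyp (i : T ⟶ G) (α : T ⟶ Red.Gm S) (pp pm : Red.Ga S ⟶ G) : Prop where
  openImm : IsOpenImmersion (Φ i pp pm).left
  monoI : Mono i
  comm : ∀ {X : Over S} (a b : X ⟶ T), a * b = b * a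
  conjP : ∀ {X : Over S} (t : X ⟶ T) (a : Γ(X.left, ⊤)),
    (t ≫ i) * P pp a = P pp (Red.gmFn (t ≫ α) * a) * (t ≫ i)
  conjM : ∀ {X : Over S} (t : X ⟶ T) (b : Γ(X.left, ⊤)),
    (t ≫ i) * P pm b = P pm (Red.gmFn (t ≫ α⁻¹) * b) * (t ≫ i)
  lift : ∀ {X : Over S} (z : X ⟶ Red.Gm S), ∃ (X' : Over S) (c : X' ⟶ X) (t : X' ⟶ T),
    Epi c.left ∧ Surjective c.left ∧ t ≫ α = c ≫ z

variable {i : T ⟶ G} {α : T ⟶ Red.Gm S} {pp pm : Red.Ga S ⟶ G}

theorem cell_comp {X X' : Over S} (c : X' ⟶ X) {f : X ⟶ G} {A : Γ(X.left, ⊤)} {B : X ⟶ T}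
    {C : Γ(X.left, ⊤)} (h : Cell i pp pm f A B C) :
    Cell i pp pm (c ≫ f) (c.left.appTop A) (c ≫ B) (c.left.appTop C) := by
  rw [Cell] at h ⊢
  rw [h, MonObj.comp_mul, MonObj.comp_mul, P_comp, P_comp, Category.assoc]

theorem dec_comp {X X' : Over S} (c : X' ⟶ X) {x y A : Γ(X.left, ⊤)} {B : X ⟶ T}
    {C : Γ(X.left, ⊤)} (h : Dec i pp pm x y A B C) :
    Dec i pp pm (c.left.appTop x) (c.left.appTop y) (c.left.appTop A) (c ≫ B) (c.left.appTop C) := by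
  have := cell_comp (i := i) c (h : Cell i pp pm (P pp x * P pm y) A B C)
  rwa [Cell, MonObj.comp_mul, P_comp, P_comp] at this

namespace Hyp

section Basic

variable (H : Hyp i α pp pm)
include H

theorem unique {X : Over S} {f : X ⟶ G} {A A' : Γ(X.left, ⊤)} {B B' : X ⟶ T} {C C' : Γ(X.left, ⊤)}
    (h : Cell i pp pm f A B C) (h' : Cell i pp pm f A' B' C') : A = A' ∧ B = B' ∧ C = C' := by
  have := H.openImm
  have e : trip A B C ≫ Φ i pp pm = trip A' B' C' ≫ Φ i pp pm := by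
    rw [trip_Φ, trip_Φ]; exact h.symm.trans h'
  have e' : trip A B C = trip A' B' C' :=
    Over.OverMorphism.ext ((cancel_mono (Φ i pp pm).left).1 (congrArg Over.Hom.left e))
  refine ⟨?_, ?_, ?_⟩
  · have := congrArg (fun m => Red.gaFn (m ≫ fst _ _ ≫ fst _ _)) e'
    simpa [trip] using this
  · simpa [trip] using congrArg (fun m => m ≫ fst _ _ ≫ snd _ _) e'
  · have := congrArg (fun m => Red.gaFn (m ≫ snd _ _)) e'
    simpa [trip] using this

theorem exists_cell_iff {X : Over S} (f : X ⟶ G) :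
    (∃ A B C, Cell i pp pm f A B C) ↔ Set.range f.left ⊆ Set.range (Φ i pp pm).left := by
  have := H.openImm
  constructor
  · rintro ⟨A, B, C, h⟩
    rw [Cell, ← trip_Φ] at h
    subst h
    rintro _ ⟨p, rfl⟩
    exact ⟨(trip A B C).left p, rfl⟩
  · intro h
    let w : X ⟶ (Red.Ga S ⊗ T) ⊗ Red.Ga S :=
      Over.homMk (IsOpenImmersion.lift (Φ i pp pm).left f.left h) (by
        rw [← Over.w (Φ i pp pm), IsOpenImmersion.lift_fac_assoc, Over.w f])
    have hw : w ≫ Φ i pp pm = f := by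
      ext; exact IsOpenImmersion.lift_fac _ _ _
    have e : w = trip (Red.gaFn (w ≫ fst _ _ ≫ fst _ _)) (w ≫ fst _ _ ≫ snd _ _)
        (Red.gaFn (w ≫ snd _ _)) := by
      apply CartesianMonoidalCategory.hom_ext
      · apply CartesianMonoidalCategory.hom_ext
        · simp only [trip, lift_fst, Category.assoc]
          exact Ga.eq_gaPt _ rfl
        · simp [trip]
      · simp only [trip, lift_snd]
        exact Ga.eq_gaPt _ rfl
    exact ⟨_, _, _, (hw.symm.trans (congrArg (· ≫ Φ i pp pm) e)).trans (trip_Φ i pp pm _ _ _)⟩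

theorem cell_of_surjective {X X' : Over S} (c : X' ⟶ X) [Surjective c.left] {f : X ⟶ G}
    (h : ∃ A B C, Cell i pp pm (c ≫ f) A B C) : ∃ A B C, Cell i pp pm f A B C := by
  rw [H.exists_cell_iff] at h ⊢
  rintro _ ⟨p, rfl⟩
  obtain ⟨p', rfl⟩ := c.left.surjective p
  exact h ⟨p', rfl⟩

theorem cell_open {X : Over S} (f : X ⟶ G) (sel : ∀ {Y : Over S}, Γ(Y.left, ⊤) → Γ(Y.left, ⊤) → Γ(Y.left, ⊤))
    (hsel : ∀ {Y Y' : Over S} (d : Y' ⟶ Y) (A C : Γ(Y.left, ⊤)),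
      d.left.appTop (sel A C) = sel (d.left.appTop A) (d.left.appTop C)) :
    ∃ O : X.left.Opens, ∀ {X' : Over S} (c : X' ⟶ X),
      (∃ A B C, Cell i pp pm (c ≫ f) A B C ∧ IsUnit (sel A C)) ↔ Set.range c.left ⊆ (O : Set X.left) := by
  have := H.openImm
  let O₁ : X.left.Opens := f.left ⁻¹ᵁ (Φ i pp pm).left.opensRange
  let W : Over S := Over.mk (O₁.ι ≫ X.hom)
  let ιW : W ⟶ X := Over.homMk O₁.ι rfl
  obtain ⟨A, B, C, hW⟩ := (H.exists_cell_iff (ιW ≫ f)).2 (by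
    rintro _ ⟨p, rfl⟩; exact p.2)
  let U : (O₁ : Scheme.{u}).Opens := W.left.basicOpen (sel A C)
  refine ⟨O₁.ι ''ᵁ U, fun {X'} c => ⟨?_, fun h => ?_⟩⟩
  · rintro ⟨A', B', C', h', hu⟩
    have hr : Set.range c.left ⊆ Set.range O₁.ι := by
      rintro _ ⟨p, rfl⟩
      rw [Scheme.Opens.range_ι]
      exact (H.exists_cell_iff (c ≫ f)).1 ⟨_, _, _, h'⟩ ⟨p, rfl⟩
    let c' : X' ⟶ W := Over.homMk (IsOpenImmersion.lift O₁.ι c.left hr) (by
      change IsOpenImmersion.lift O₁.ι c.left hr ≫ O₁.ι ≫ X.hom = _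
      rw [IsOpenImmersion.lift_fac_assoc, Over.w c])
    have hc : c' ≫ ιW = c := by ext; exact IsOpenImmersion.lift_fac _ _ _
    have := cell_comp c' hW
    rw [← Category.assoc, hc] at this
    obtain ⟨e1, -, e3⟩ := H.unique h' this
    rw [e1, e3, ← hsel] at hu
    rintro _ ⟨p, rfl⟩
    refine ⟨c'.left p, range_subset_basicOpen c' _ hu ⟨p, rfl⟩, ?_⟩
    change (c' ≫ ιW).left p = c.left p
    rw [hc]
  · have hr : Set.range c.left ⊆ Set.range O₁.ι := by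
      intro p hp
      obtain ⟨q, -, rfl⟩ := h hp
      exact ⟨q, rfl⟩
    let c' : X' ⟶ W := Over.homMk (IsOpenImmersion.lift O₁.ι c.left hr) (by
      change IsOpenImmersion.lift O₁.ι c.left hr ≫ O₁.ι ≫ X.hom = _
      rw [IsOpenImmersion.lift_fac_assoc, Over.w c])
    have hc : c' ≫ ιW = c := by ext; exact IsOpenImmersion.lift_fac _ _ _
    have := cell_comp c' hW
    rw [← Category.assoc, hc] at this
    refine ⟨_, _, _, this, ?_⟩
    rw [← hsel]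
    refine isUnit_of_range_subset c' _ ?_
    rintro _ ⟨p, rfl⟩
    obtain ⟨q, hq, hqp⟩ := h ⟨p, rfl⟩
    have hinj := O₁.ι.isOpenEmbedding.injective
    have : c'.left p = q := hinj (by
      change (c' ≫ ιW).left p = O₁.ι q
      rw [hc]; exact hqp.symm)
    rw [this]; exact hq

end Basic

section Laws

variable [IsMonHom i] [IsMonHom α] [IsMonHom pp] [IsMonHom pm] (H : Hyp i α pp pm)
include H

theorem inv_α {X : Over S} (B : X ⟶ T) : B⁻¹ ≫ α = B ≫ α⁻¹ := by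
  exact (GrpObj.inv_comp B α).trans (GrpObj.comp_inv B α).symm

/-- Moving `pp` to the right across the torus. -/
theorem P_mul_B {X : Over S} (x : Γ(X.left, ⊤)) (B : X ⟶ T) :
    P pp x * (B ≫ i) = (B ≫ i) * P pp (Red.gmFn (B ≫ α⁻¹) * x) := by
  have h := H.conjP B⁻¹ x
  rw [H.inv_α, GrpObj.inv_comp B i] at h
  rw [eq_mul_inv_iff_mul_eq, _root_.mul_assoc, inv_mul_eq_iff_eq_mul] at h
  exact h

theorem mulL {X : Over S} {x v y A A' C C' : Γ(X.left, ⊤)} {B B' : X ⟶ T}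
    (h1 : Dec i pp pm v y A B C) (h2 : Dec i pp pm x A A' B' C') :
    Dec i pp pm (x + v) y A' (B' * B) (Red.gmFn (B ≫ α⁻¹) * C' + C) := by
  rw [Dec] at h1 h2 ⊢
  calc P pp (x + v) * P pm y = P pp x * (P pp v * P pm y) := by rw [P_add, _root_.mul_assoc]
    _ = (P pp x * P pm A) * (B ≫ i) * P pp C := by rw [h1]; simp only [_root_.mul_assoc]
    _ = P pm A' * (B' ≫ i) * ((P pp C' * (B ≫ i)) * P pp C) := by rw [h2]; simp only [_root_.mul_assoc]
    _ = _ := by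
      rw [H.P_mul_B, P_add, MonObj.mul_comp]; simp only [_root_.mul_assoc]

theorem mulR {X : Over S} {x y y' A A' C C' : Γ(X.left, ⊤)} {B B' : X ⟶ T}
    (h1 : Dec i pp pm x y A B C) (h2 : Dec i pp pm C y' A' B' C') :
    Dec i pp pm x (y + y') (A + Red.gmFn (B ≫ α⁻¹) * A') (B * B') C' := by
  rw [Dec] at h1 h2 ⊢
  calc P pp x * P pm (y + y') = (P pp x * P pm y) * P pm y' := by rw [P_add, _root_.mul_assoc]
    _ = P pm A * (B ≫ i) * (P pp C * P pm y') := by rw [h1]; simp only [_root_.mul_assoc]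
    _ = P pm A * ((B ≫ i) * P pm A') * (B' ≫ i) * P pp C' := by rw [h2]; simp only [_root_.mul_assoc]
    _ = _ := by
      rw [H.conjM, P_add, MonObj.mul_comp]; simp only [_root_.mul_assoc]

theorem scale {X : Over S} (z : Γ(X.left, ⊤)ˣ) {x y A C : Γ(X.left, ⊤)} {B : X ⟶ T}
    (h : Dec i pp pm x y A B C) :
    Dec i pp pm ((z : Γ(X.left, ⊤)) * x) ((↑z⁻¹ : Γ(X.left, ⊤)) * y) ((↑z⁻¹ : Γ(X.left, ⊤)) * A) B
      ((z : Γ(X.left, ⊤)) * C) := by
  obtain ⟨X', c, t, hc, hs, ht⟩ := H.lift (Gm.gmPt z)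
  refine RankOne.eq_of_epi hc ?_
  have h' := dec_comp c h
  rw [Dec] at h'
  have e1 : Red.gmFn (t ≫ α) = c.left.appTop (z : Γ(X.left, ⊤)) := by
    rw [ht, Gm.gmFn_comp, Gm.gmFn_gmPt]
  have e2 : Red.gmFn (t ≫ α⁻¹) = c.left.appTop (↑z⁻¹ : Γ(X.left, ⊤)) := by
    rw [GrpObj.comp_inv, RankOne.Sys.gmFn_inv_of _ (Units.map c.left.appTop.hom.toMonoidHom z) e1]
    rfl
  have h2 := congrArg (fun g => (t ≫ i) * g * (t ≫ i)⁻¹) h'
  dsimp only at h2
  have hB : (t ≫ i) * ((c ≫ B) ≫ i) = ((c ≫ B) ≫ i) * (t ≫ i) := by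
    rw [← MonObj.mul_comp, H.comm, MonObj.mul_comp]
  rw [← _root_.mul_assoc (t ≫ i), H.conjP, _root_.mul_assoc (P pp _) (t ≫ i), H.conjM,
    ← _root_.mul_assoc, mul_inv_cancel_right, ← _root_.mul_assoc (t ≫ i), ← _root_.mul_assoc (t ≫ i),
    H.conjM, _root_.mul_assoc (P pm _) (t ≫ i), hB, ← _root_.mul_assoc,
    _root_.mul_assoc (P pm _ * _) (t ≫ i), H.conjP, ← _root_.mul_assoc, mul_inv_cancel_right, e1, e2] at h2
  simp only [MonObj.comp_mul, P_comp, map_mul, ← Category.assoc]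
  exact h2

end Laws

end Hyp

end Groth.Agent.H82.BigCell
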