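import Groth.Agent.H82.BigCell.Field

/-!
# The coefficients are units and agree
-/

set_option autoImplicit false
set_option linter.style.haveILetI false
set_option linter.unusedSectionVars false
universe u

open CategoryTheory MonoidalCategory CartesianMonoidalCategory MonObj GrpObj AlgebraicGeometry
open Groth.Agent.Lib.RedPts
open Groth.Agent.H82.RankOne (P P_eq P_add P_zero P_neg P_comp gmPt_eq gmPt_comp)

namespace Groth.Agent.H82.BigCell.Hyp

variable {S : Scheme.{u}} {G T : Over S} [GrpObj G] [GrpObj T]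
  {i : T ⟶ G} {α : T ⟶ Red.Gm S} {pp pm : Red.Ga S ⟶ G}
  [IsMonHom i] [IsMonHom α] [IsMonHom pp] [IsMonHom pm] (H : Hyp i α pp pm)
include H

theorem mu_eq_lam_of_field (X : Over S) [IsAffine X.left] (hk : IsField Γ(X.left, ⊤))
    (hl : H.lam X ≠ 0) : H.mu X = H.lam X := by
  have h := H.lam_mul_sub (X := X) fun X' c _ => H.good_over_field X hk c
  exact (sub_eq_zero.1 ((FEq.isUnit_of_ne_zero X hk hl).mul_right_inj.1 (h.trans (mul_zero _).symm))).symm

theorem field_zero (X : Over S) [IsAffine X.left] (hk : IsField Γ(X.left, ⊤))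
    (hne : ¬ (H.lam X ≠ 0 ∧ H.mu X ≠ 0)) : H.lam X = 0 ∧ H.mu X = 0 := by
  by_cases hl : H.lam X = 0
  · exact ⟨hl, H.mu_eq_zero_of_lam_eq_zero X hk (fun X' c _ => H.good_over_field X hk c) hl⟩
  · exact absurd ⟨hl, (H.mu_eq_lam_of_field X hk hl).symm ▸ hl⟩ hne

set_option maxHeartbeats 1000000 in
theorem dec_poly (hT : Red.IsTorus T) (X : Over S) [IsAffine X.left] (hk : IsField Γ(X.left, ⊤))
    (hl : H.lam X = 0) (hm : H.mu X = 0) :
    Dec i pp pm (fn X (Polynomial.C : Γ(X.left, ⊤) →+* _) Polynomial.X) 1 1 1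
      (fn X (Polynomial.C : Γ(X.left, ⊤) →+* _) Polynomial.X) := by
  letI := hk.toField
  let φ : Γ(X.left, ⊤) →+* Polynomial Γ(X.left, ⊤) := Polynomial.C
  let v := fn X φ Polynomial.X
  have hl1 : H.lam (ext X φ) = 0 := by rw [← H.lam_comp (extHom X φ), hl, map_zero]
  have hv : H.aMem v := H.aF.mem_of_isUnit (by
    change IsUnit (1 + H.lam _ * v); rw [hl1, zero_mul, add_zero]; exact isUnit_one)
  obtain ⟨⟨B, C, hd⟩, hu⟩ := H.aVal_spec hv
  obtain ⟨A, hA⟩ := (fn X φ).surjective (H.aVal v)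
  obtain ⟨r, -, hr⟩ := Polynomial.isUnit_iff.1 (show IsUnit A by
    have h := hu.map (fn X φ).symm
    rw [← hA, RingEquiv.symm_apply_apply] at h
    exact h)
  let z : ext X (RingHom.id _) ⟶ ext X φ :=
    extMap φ (RingHom.id _) (𝟙 X) (Polynomial.evalRingHom 0) (by ext; simp [φ])
  have hz := dec_comp z hd
  rw [← hA, ← hr, extMap_fn, extMap_fn, map_one] at hz
  simp only [Polynomial.coe_evalRingHom, Polynomial.eval_X, Polynomial.eval_C, map_zero] at hz
  obtain ⟨eA, eB, -⟩ := H.unique hz (H.dec_zero_left 1)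
  have hr1 : r = 1 := (fn X (RingHom.id _)).injective (eA.trans (map_one _).symm)
  have hB : B = 1 := eq_one_of_polynomial hT X hk B eB
  have hA1 : H.aVal v = 1 := by rw [← hA, ← hr, hr1, map_one, map_one]
  rw [hA1, hB] at hd
  -- the last coordinate
  let κ : Γ(X.left, ⊤) →+* RatFunc Γ(X.left, ⊤) := RatFunc.C
  let K := ext X κ
  have hK : IsField Γ(K.left, ⊤) :=
    MulEquiv.isField (Field.toIsField (RatFunc Γ(X.left, ⊤))) (fn X κ).symm.toMulEquiv
  let d : K ⟶ ext X φ := extMap φ κ (𝟙 X) (algebraMap _ (RatFunc Γ(X.left, ⊤)))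
    (RingHom.ext fun a => by simp [φ, κ])
  have hd' := dec_comp d hd
  rw [map_one, extMap_fn] at hd'
  obtain ⟨x, hx⟩ : IsUnit (fn X κ (algebraMap _ (RatFunc Γ(X.left, ⊤)) Polynomial.X)) :=
    IsUnit.map (fn X κ) (isUnit_iff_ne_zero.2 ((map_ne_zero_iff _ (RatFunc.algebraMap_injective _)).2
      Polynomial.X_ne_zero))
  have el : H.lam K = 0 := by rw [← H.lam_comp (extHom X κ), hl, map_zero]
  have em : H.mu K = 0 := by rw [← H.mu_comp (extHom X κ), hm, map_zero]
  obtain ⟨B', hx'⟩ := H.dec_unit_one (H.good_of_field K hK) x 1 1 (by rw [el]; simp) (by rw [em]; simp)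
  rw [hx] at hx'
  simp only [inv_one, Units.val_one, _root_.mul_one] at hx'
  obtain ⟨-, -, eC⟩ := H.unique hd' hx'
  obtain ⟨Cp, hCp⟩ := (fn X φ).surjective C
  rw [← hCp, extMap_fn] at eC
  have := RatFunc.algebraMap_injective _ ((fn X κ).injective eC)
  rw [← hCp, this] at hd
  exact hd

theorem dec_of_lam_zero (hT : Red.IsTorus T) (X : Over S) [IsAffine X.left] (hk : IsField Γ(X.left, ⊤))
    (hl : H.lam X = 0) (hm : H.mu X = 0) {Y : Over S} (c : Y ⟶ X) (u : Γ(Y.left, ⊤)) :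
    Dec i pp pm u 1 1 1 u := by
  obtain ⟨d, -, hd⟩ := exists_toExt (Polynomial.C : Γ(X.left, ⊤) →+* _) c
    (Polynomial.eval₂RingHom c.left.appTop.hom u) (RingHom.ext fun a => by simp)
  have h := dec_comp d (H.dec_poly hT X hk hl hm)
  rw [hd, map_one, MonObj.comp_one, Polynomial.coe_eval₂RingHom, Polynomial.eval₂_X] at h
  exact h

theorem commute_of_lam_zero (hT : Red.IsTorus T) (X : Over S) [IsAffine X.left] (hk : IsField Γ(X.left, ⊤))
    (hl : H.lam X = 0) (hm : H.mu X = 0) {Y : Over S} (c : Y ⟶ X) (x y : Γ(Y.left, ⊤)) :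
    P pp x * P pm y = P pm y * P pp x := by
  have hunit : ∀ {Y : Over S} (_c : Y ⟶ X) (x : Γ(Y.left, ⊤)) (y : Γ(Y.left, ⊤)ˣ),
      P pp x * P pm (y : Γ(Y.left, ⊤)) = P pm (y : Γ(Y.left, ⊤)) * P pp x := fun c x y => by
    have h := H.scale y⁻¹ (H.dec_of_lam_zero hT X hk hl hm c ((y : Γ(_, ⊤)) * x))
    rw [_root_.inv_inv, _root_.mul_one, ← _root_.mul_assoc, Units.inv_mul, _root_.one_mul] at h
    rw [Dec, MonObj.one_comp, _root_.mul_one] at h
    exact h
  refine pt_ext_affine fun q => ?_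
  simp only [MonObj.comp_mul, P_comp]
  generalize (pieceHom Y q).left.appTop x = x'
  generalize (pieceHom Y q).left.appTop y = y'
  haveI : IsAffine (piece Y q).left := inferInstanceAs (IsAffine (Y.left.affineCover.X q))
  obtain ⟨Y', e, t, hY', he, -, hu, -⟩ := exists_generic (piece Y q)
    ![Polynomial.X, Polynomial.C y' - Polynomial.X]
    (fun k => by
      fin_cases k
      · exact ⟨1, by simp⟩
      · exact ⟨1, by simp⟩)
  have h0 := hu 0; have h1 := hu 1
  simp at h0 h1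
  obtain ⟨t₀, ht⟩ := h0
  obtain ⟨t₁, ht'⟩ := h1
  refine RankOne.eq_of_epi he ?_
  simp only [MonObj.comp_mul, P_comp]
  have hy : e.left.appTop y' = (t₀ : Γ(Y'.left, ⊤)) + (t₁ : Γ(Y'.left, ⊤)) := by rw [ht', ht]; ring
  have c' : Y' ⟶ X := e ≫ pieceHom Y q ≫ c
  rw [hy, P_add, ← _root_.mul_assoc, hunit c', _root_.mul_assoc, hunit c', _root_.mul_assoc]

/-- The coefficients are units. -/
theorem isUnit_lam_mu (hT : Red.IsTorus T)
    (hnc : ∀ s : S, ∃ (Y : Over S) (_ : Y ⟶ Over.mk (Red.geomPt s)) (x y : Γ(Y.left, ⊤)),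
      P pp x * P pm y ≠ P pm y * P pp x) (X : Over S) :
    IsUnit (H.lam X) ∧ IsUnit (H.mu X) := by
  suffices h : IsUnit (H.lam (𝟙_ (Over S))) ∧ IsUnit (H.mu (𝟙_ (Over S))) by
    refine ⟨?_, ?_⟩
    · rw [← H.lam_comp (toUnit X)]; exact h.1.map (toUnit X).left.appTop.hom
    · rw [← H.mu_comp (toUnit X)]; exact h.2.map (toUnit X).left.appTop.hom
  let O : Over S := 𝟙_ (Over S)
  have key : ∀ p : O.left, H.lam (ptObj O p) ≠ 0 ∧ H.mu (ptObj O p) ≠ 0 := fun p => by
    haveI : IsAffine (ptObj O p).left := inferInstanceAs (IsAffine (Spec (O.left.residueField p)))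
    have hk := isField_ptObj O p
    by_contra hne
    -- both coefficients vanish
    have hzero : H.lam (ptObj O p) = 0 ∧ H.mu (ptObj O p) = 0 := H.field_zero _ hk hne
    obtain ⟨Y, b, x, y, hxy⟩ := hnc p
    let Ω : Over S := Over.mk (Red.geomPt (S := S) p)
    let j : Ω ⟶ ptObj O p := Over.homMk
      (Spec.map (CommRingCat.ofHom (algebraMap (S.residueField p) (AlgebraicClosure (S.residueField p))))) (by
        change _ ≫ S.fromSpecResidueField p ≫ 𝟙 S = _
        rw [Category.comp_id]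
        rfl)
    exact hxy (H.commute_of_lam_zero hT _ hk hzero.1 hzero.2 (b ≫ j) x y)
  exact ⟨isUnit_of_points _ fun p => by
      rw [H.lam_comp]
      haveI : IsAffine (ptObj O p).left := inferInstanceAs (IsAffine (Spec (O.left.residueField p)))
      exact FEq.isUnit_of_ne_zero _ (isField_ptObj O p) (key p).1,
    isUnit_of_points _ fun p => by
      rw [H.mu_comp]
      haveI : IsAffine (ptObj O p).left := inferInstanceAs (IsAffine (Spec (O.left.residueField p)))
      exact FEq.isUnit_of_ne_zero _ (isField_ptObj O p) (key p).2⟩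

end Groth.Agent.H82.BigCell.Hyp
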