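import Groth.Agent.H82.BigCell.Tools
import Mathlib.FieldTheory.RatFunc.AsPolynomial
import Mathlib.RingTheory.Localization.AtPrime.Basic
import Mathlib.RingTheory.Polynomial.UniqueFactorization
import Mathlib.RingTheory.IntegralClosure.IntegrallyClosed

/-!
# The functional equation `a(u + v) = a(v) a(u a(v))`
-/

set_option autoImplicit false
set_option linter.style.haveILetI false
universe u

open CategoryTheory MonoidalCategory CartesianMonoidalCategory MonObj GrpObj AlgebraicGeometry
open Groth.Agent.Lib.RedPts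

namespace Groth.Agent.H82.BigCell

variable {S : Scheme.{u}}

/-- A unit-valued function `val` on an open `mem` of the line around `0` with the functional equation. -/
structure FEq (S : Scheme.{u}) where
  mem : ∀ {X : Over S}, Γ(X.left, ⊤) → Prop
  val : ∀ {X : Over S}, Γ(X.left, ⊤) → Γ(X.left, ⊤)
  mem_open : ∀ {X : Over S} (u : Γ(X.left, ⊤)), ∃ O : X.left.Opens,
    ∀ {X' : Over S} (c : X' ⟶ X), mem (c.left.appTop u) ↔ Set.range c.left ⊆ (O : Set X.left)
  mem_zero : ∀ {X : Over S}, mem (0 : Γ(X.left, ⊤))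
  val_zero : ∀ {X : Over S}, val (0 : Γ(X.left, ⊤)) = 1
  val_comp : ∀ {X X' : Over S} (c : X' ⟶ X) {u : Γ(X.left, ⊤)}, mem u →
    val (c.left.appTop u) = c.left.appTop (val u)
  isUnit_val : ∀ {X : Over S} {u : Γ(X.left, ⊤)}, mem u → IsUnit (val u)
  law : ∀ {X : Over S} {u v : Γ(X.left, ⊤)}, mem v → mem (u * val v) →
    mem (u + v) ∧ val (u + v) = val v * val (u * val v)

namespace FEq

variable (F : FEq S)

theorem mem_comp {X X' : Over S} (c : X' ⟶ X) {u : Γ(X.left, ⊤)} (h : F.mem u) :
    F.mem (c.left.appTop u) := by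
  obtain ⟨O, hO⟩ := F.mem_open u
  have h' := (hO (𝟙 X)).1 (by simpa using h)
  refine (hO c).2 fun x hx => h' ⟨x, ?_⟩
  simp

theorem mem_of_surjective {X X' : Over S} (c : X' ⟶ X) [Surjective c.left] {u : Γ(X.left, ⊤)}
    (h : F.mem (c.left.appTop u)) : F.mem u := by
  obtain ⟨O, hO⟩ := F.mem_open u
  have h' := (hO c).1 h
  have : F.mem ((𝟙 X : X ⟶ X).left.appTop u) := (hO (𝟙 X)).2 fun x _ => h' (c.left.surjective x)
  simpa using this

theorem mem_of_points {X : Over S} {u : Γ(X.left, ⊤)}
    (h : ∀ p : X.left, F.mem ((ptHom X p).left.appTop u)) : F.mem u := by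
  obtain ⟨O, hO⟩ := F.mem_open u
  have : F.mem ((𝟙 X : X ⟶ X).left.appTop u) := (hO (𝟙 X)).2 fun x _ =>
    (hO (ptHom X x)).1 (h x) (mem_range_ptHom X x)
  simpa using this

theorem mem_dual (X : Over S) [IsAffine X.left] {u : Γ(X.left, ⊤)} (h : F.mem u) (t : Γ(X.left, ⊤)) :
    F.mem (dfn X u t) := by
  have := surjective_zeroSec X
  refine F.mem_of_surjective (zeroSec X) ?_
  rw [zeroSec_fn]
  exact F.mem_comp _ h

/-- The linear coefficient. -/
noncomputable def dlam (X : Over S) [IsAffine X.left] : Γ(X.left, ⊤) :=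
  -((fn X (inl X)).symm (F.val (dfn X 0 1))).snd

theorem val_eps (X : Over S) [IsAffine X.left] : F.val (dfn X 0 1) = dfn X 1 (-F.dlam X) := by
  obtain ⟨a, b, hab⟩ := dfn_surjective X (F.val (dfn X 0 1))
  have hb : F.dlam X = -b := by rw [dlam, hab, dfn, RingEquiv.symm_apply_apply]; simp
  have ha : a = 1 := by
    have h1 := F.val_comp (zeroSec X) (F.mem_dual X F.mem_zero 1)
    rw [hab, zeroSec_fn, zeroSec_fn, map_zero, F.val_zero, ← map_one (extHom X (RingHom.id _)).left.appTop.hom] at h1
    exact (fn_ext_of_injective (RingHom.id _) Function.injective_id h1).symm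
  rw [hab, hb, ha, neg_neg]

theorem val_eps_mul (X : Over S) [IsAffine X.left] (t : Γ(X.left, ⊤)) :
    F.val (dfn X 0 t) = dfn X 1 (-(F.dlam X * t)) := by
  have h := F.val_comp (dualMap X (𝟙 X) t) (F.mem_dual X F.mem_zero 1)
  rw [dualMap_fn, val_eps, dualMap_fn] at h
  simp at h
  rw [h]
  congr 1
  ring

theorem dlam_comp {X X' : Over S} [IsAffine X.left] [IsAffine X'.left] (c : X' ⟶ X) :
    c.left.appTop (F.dlam X) = F.dlam X' := by
  have h := F.val_comp (dualMap X c 1) (F.mem_dual X F.mem_zero 1)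
  rw [dualMap_fn, val_eps, dualMap_fn, map_zero, map_one, _root_.mul_one, val_eps] at h
  have := (dfn_inj X' h).2
  rw [map_neg, _root_.one_mul, neg_inj] at this
  exact this.symm

/-- The linear coefficient as a point. -/
noncomputable def lamPt : 𝟙_ (Over S) ⟶ Red.Ga S :=
  (exists_global (fun X hX => haveI := hX; F.dlam X) (fun hX hX' c => by
    haveI := hX; haveI := hX'; exact F.dlam_comp c)).choose

/-- The linear coefficient on any object. -/
noncomputable def lam (X : Over S) : Γ(X.left, ⊤) := Red.gaFn (toUnit X ≫ F.lamPt)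

theorem lam_comp {X X' : Over S} (c : X' ⟶ X) : c.left.appTop (F.lam X) = F.lam X' := by
  rw [lam, lam, ← Ga.gaFn_comp, ← Category.assoc, toUnit_unique (c ≫ toUnit X) (toUnit X')]

theorem lam_eq_dlam (X : Over S) [hX : IsAffine X.left] : F.lam X = F.dlam X :=
  (exists_global (fun X hX => haveI := hX; F.dlam X) (fun hX hX' c => by
    haveI := hX; haveI := hX'; exact F.dlam_comp c)).choose_spec X hX

theorem val_eps_lam (X : Over S) [IsAffine X.left] (t : Γ(X.left, ⊤)) :
    F.val (dfn X 0 t) = dfn X 1 (-(F.lam X * t)) := by rw [val_eps_mul, lam_eq_dlam]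

theorem alg_identity_affine (X : Over S) [IsAffine X.left] {u : Γ(X.left, ⊤)} (h : F.mem u) :
    F.lam X * (F.val u * (1 + F.lam X * u)) = F.lam X := by
  set a := F.val u with ha
  set l := F.lam X
  have hu : F.mem (dfn X u 0) := F.mem_dual X h 0
  have hvu : F.val (dfn X u 0) = dfn X a 0 := by
    rw [← extHom_dual, F.val_comp _ h, extHom_dual]
  have step : ∀ t, F.mem (dfn X u t) ∧ F.val (dfn X u t) = dfn X a (-(l * (t * a) * a)) := fun t => by
    have h1 : F.mem (dfn X 0 t * F.val (dfn X u 0)) := by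
      rw [hvu, dfn_mul]; simp only [zero_mul, mul_zero, zero_add]
      exact F.mem_dual X F.mem_zero _
    obtain ⟨h2, h3⟩ := F.law hu h1
    rw [dfn_add, zero_add, add_zero] at h2 h3
    refine ⟨h2, ?_⟩
    rw [h3, hvu, dfn_mul, zero_mul, mul_zero, zero_add, F.val_eps_lam, dfn_mul]
    congr 1 <;> ring
  have h1 : F.mem (dfn X u 0 * F.val (dfn X 0 1)) := by
    rw [F.val_eps_lam, dfn_mul]
    exact F.mem_dual X (by rwa [_root_.mul_one]) _
  obtain ⟨-, h3⟩ := F.law (F.mem_dual X F.mem_zero 1) h1
  rw [dfn_add, add_zero, zero_add, (step 1).2, F.val_eps_lam, dfn_mul, _root_.mul_one u, (step _).2,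
    dfn_mul] at h3
  have h4 := (dfn_inj X h3).2
  obtain ⟨au, hau⟩ := F.isUnit_val h
  rw [← ha] at hau
  apply au.mul_right_inj.1
  rw [hau]
  linear_combination -h4

theorem alg_identity {X : Over S} {u : Γ(X.left, ⊤)} (h : F.mem u) :
    F.lam X * (F.val u * (1 + F.lam X * u)) = F.lam X := by
  refine fn_ext_affine fun X' c hX' => ?_
  have := hX'
  have h' := F.alg_identity_affine X' (F.mem_comp c h)
  rw [F.val_comp c h, ← F.lam_comp c] at h'
  simpa [map_mul, map_add] using h'

section Field

variable (X : Over S) [IsAffine X.left] (hk : IsField Γ(X.left, ⊤))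

omit [IsAffine X.left] in
include hk in
theorem isUnit_of_ne_zero {a : Γ(X.left, ⊤)} (h : a ≠ 0) : IsUnit a := by
  obtain ⟨b, hb⟩ := hk.mul_inv_cancel h
  exact ⟨⟨a, b, hb, (mul_comm b a).trans hb⟩, rfl⟩

include hk in
theorem mem_of_field (u : Γ(X.left, ⊤)) (hu : 1 + F.lam X * u ≠ 0) : F.mem u := by
  classical
  letI := hk.toField
  let k := Γ(X.left, ⊤)
  let P : Ideal (Polynomial k) := RingHom.ker (Polynomial.evalRingHom (0 : k))
  haveI hP : P.IsPrime := RingHom.ker_isPrime _
  let R₀ := Localization.AtPrime P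
  let φ₀ : k →+* R₀ := (algebraMap (Polynomial k) R₀).comp Polynomial.C
  let X₀ := ext X φ₀
  let ρ : R₀ →+* k := IsLocalization.lift (M := P.primeCompl) (g := Polynomial.evalRingHom (0 : k))
    (fun y => isUnit_iff_ne_zero.2 y.2)
  have hρ : ∀ q : Polynomial k, ρ (algebraMap _ R₀ q) = q.eval 0 := fun q => IsLocalization.lift_eq _ q
  let z : ext X (RingHom.id k) ⟶ X₀ := extMap φ₀ (RingHom.id k) (𝟙 X) ρ (RingHom.ext fun a => by
    change ρ (algebraMap _ R₀ (Polynomial.C a)) = _
    rw [hρ]; simp; rfl)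
  let x : R₀ := algebraMap (Polynomial k) R₀ Polynomial.X
  let v : Γ(X₀.left, ⊤) := fn X φ₀ x
  have hv : F.mem v := by
    obtain ⟨O, hO⟩ := F.mem_open v
    have h0 : F.mem (z.left.appTop v) := by
      rw [extMap_fn, hρ, Polynomial.eval_X, map_zero]; exact F.mem_zero
    have hr := (hO z).1 h0
    have hcl : IsLocalRing.closedPoint R₀ ∈ O := by
      refine hr ⟨(IsLocalRing.closedPoint k : PrimeSpectrum k), ?_⟩
      change PrimeSpectrum.comap ρ (IsLocalRing.closedPoint k) = _
      have : IsLocalHom ρ := ⟨fun a ha => by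
        obtain ⟨⟨q, s⟩, rfl⟩ := IsLocalization.mk'_surjective P.primeCompl a
        have hq : q ∈ P.primeCompl := fun hq => by
          have h2 : ρ (IsLocalization.mk' R₀ q s) * ρ (algebraMap (Polynomial k) R₀ s) = ρ (algebraMap (Polynomial k) R₀ q) := by
            rw [← map_mul, IsLocalization.mk'_spec]
          rw [hρ q, show q.eval 0 = 0 from hq, hρ s] at h2
          exact (ha.mul (isUnit_iff_ne_zero.2 s.2)).ne_zero h2
        exact (IsLocalization.AtPrime.isUnit_mk'_iff R₀ P q s).2 hq⟩
      exact IsLocalRing.comap_closedPoint ρ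
    have hall : O = ⊤ := (IsLocalRing.closedPoint_mem_iff O).1 hcl
    have : F.mem ((𝟙 X₀ : X₀ ⟶ X₀).left.appTop v) := (hO (𝟙 X₀)).2 fun p _ => by rw [hall]; trivial
    simpa using this
  obtain ⟨a, ha⟩ := (fn X φ₀).surjective (F.val v)
  let w : R₀ := (φ₀ u - x) * a
  let K := RatFunc k
  let κ : R₀ →+* K := IsLocalization.lift (M := P.primeCompl) (g := algebraMap (Polynomial k) K)
    (fun y => isUnit_iff_ne_zero.2 ((map_ne_zero_iff _ (RatFunc.algebraMap_injective k)).2
      fun h => y.2 (by simp [P, h])))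
  have hκ : ∀ q : Polynomial k, κ (algebraMap _ R₀ q) = algebraMap _ K q := fun q => IsLocalization.lift_eq _ q
  let φK : k →+* K := RatFunc.C
  let jK : ext X φK ⟶ X₀ := extMap φ₀ φK (𝟙 X) κ (RingHom.ext fun b => by
    change κ (algebraMap _ R₀ (Polynomial.C b)) = _
    rw [hκ]; simp [φK]; rfl)
  by_cases htr : Transcendental k (κ w)
  · let χ : R₀ →+* K := IsLocalization.lift (M := P.primeCompl) (g := (Polynomial.aeval (κ w)).toRingHom)
      (fun y => isUnit_iff_ne_zero.2 fun h => y.2 (by
        have : (y : Polynomial k) = 0 := transcendental_iff.1 htr _ h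
        simp [P, this]))
    have hχ : ∀ q : Polynomial k, χ (algebraMap _ R₀ q) = Polynomial.aeval (κ w) q :=
      fun q => IsLocalization.lift_eq _ q
    let jw : ext X φK ⟶ X₀ := extMap φ₀ φK (𝟙 X) χ (RingHom.ext fun b => by
      change χ (algebraMap _ R₀ (Polynomial.C b)) = _
      rw [hχ, Polynomial.aeval_C]
      change algebraMap k (RatFunc k) b = RatFunc.C b
      rw [RatFunc.algebraMap_eq_C])
    have hv' := F.mem_comp jK hv
    have hval := F.val_comp jK hv
    have hw' := F.mem_comp jw hv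
    rw [extMap_fn] at hv' hw' hval
    rw [← ha, extMap_fn] at hval
    rw [hχ, Polynomial.aeval_X] at hw'
    have h2 : F.mem ((fn X φK (φK u) - fn X φK (κ x)) * F.val (fn X φK (κ x))) := by
      rw [hval, ← map_sub, ← map_mul]
      convert hw' using 2
      rw [map_mul, map_sub, show κ (φ₀ u) = φK u by
        change κ (algebraMap _ R₀ (Polynomial.C u)) = _
        rw [hκ]; exact RatFunc.algebraMap_C u]
    obtain ⟨h3, -⟩ := F.law hv' h2
    rw [sub_add_cancel, ← extHom_fn] at h3
    have : Surjective (extHom X φK).left := surjective_extHom φK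
      (Function.surjective_to_subsingleton (β := PrimeSpectrum k) _)
    exact F.mem_of_surjective (extHom X φK) h3
  · exfalso
    rw [Transcendental, not_not] at htr
    have hint : IsIntegral k (κ w) := htr.isIntegral
    obtain ⟨Q, hQ⟩ := (IsIntegrallyClosed.isIntegral_iff (R := Polynomial k) (K := K)).1 hint.tower_top
    have hQd : Q.natDegree = 0 := by
      by_contra hd
      have h1 : IsIntegral k Q :=
        (isIntegral_algebraMap_iff (RatFunc.algebraMap_injective k)).1 (hQ ▸ hint)
      have h2 := minpoly.aeval k Q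
      rw [← Polynomial.comp_eq_aeval] at h2
      have h3 := congrArg Polynomial.natDegree h2
      rw [Polynomial.natDegree_comp, Polynomial.natDegree_zero] at h3
      exact (Nat.mul_ne_zero (minpoly.natDegree_pos h1).ne' hd) h3
    obtain ⟨b, rfl⟩ := Polynomial.natDegree_eq_zero.1 hQd
    have hw : w = φ₀ b := by
      have hinj : Function.Injective κ := IsLocalization.lift_injective_iff _ |>.2 fun p q => by
        constructor
        · intro h; exact congrArg _ (IsLocalization.injective R₀ P.primeCompl_le_nonZeroDivisors h)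
        · intro h; exact congrArg _ (RatFunc.algebraMap_injective k h)
      apply hinj
      rw [← hQ]
      exact (hκ _).symm
    let θ : R₀ →+* DualNumber k := IsLocalization.lift (M := P.primeCompl)
      (g := Polynomial.eval₂RingHom (inl X) (DualNumber.eps : DualNumber k)) (fun y => by
        rw [TrivSqZeroExt.isUnit_iff_isUnit_fst]
        refine isUnit_iff_ne_zero.2 ?_
        have h1 : TrivSqZeroExt.fst (Polynomial.eval₂ (inl X) (DualNumber.eps : DualNumber k) y.1) =
            y.1.eval 0 := by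
          have := Polynomial.hom_eval₂ y.1 (inl X) (TrivSqZeroExt.fstHom k k k).toRingHom
            (DualNumber.eps : DualNumber k)
          refine this.trans ?_
          rw [Polynomial.eval]
          congr 1
        rw [Polynomial.coe_eval₂RingHom, h1]
        exact y.2)
    have hθ : ∀ q : Polynomial k, θ (algebraMap _ R₀ q) = Polynomial.eval₂ (inl X) DualNumber.eps q :=
      fun q => IsLocalization.lift_eq _ q
    let jd : dual X ⟶ X₀ := extMap φ₀ (inl X) (𝟙 X) θ (RingHom.ext fun r => by
      change θ (algebraMap _ R₀ (Polynomial.C r)) = _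
      rw [hθ, Polynomial.eval₂_C]; rfl)
    have hval := F.val_comp jd hv
    have hx : θ x = DualNumber.eps := by rw [hθ, Polynomial.eval₂_X]
    have heps : fn X (inl X) (DualNumber.eps : DualNumber k) = dfn X 0 1 := by
      rw [dfn]; congr 1; ext <;> simp
    have e1 : jd.left.appTop v = dfn X 0 1 :=
      (extMap_fn φ₀ (inl X) (𝟙 X) θ _ x).trans ((congrArg _ hx).trans heps)
    have e2 : jd.left.appTop (F.val v) = fn X (inl X) (θ a) :=
      (congrArg _ ha.symm).trans (extMap_fn φ₀ (inl X) (𝟙 X) θ _ a)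
    rw [e1, e2, F.val_eps_lam X 1] at hval
    have hθa : θ a = TrivSqZeroExt.inl 1 + TrivSqZeroExt.inr (-(F.lam X * 1)) :=
      ((fn X (inl X)).injective hval).symm
    have hmain := congrArg θ hw
    rw [map_mul, map_sub, hθa, hx] at hmain
    have hφθ : ∀ r : k, θ (φ₀ r) = TrivSqZeroExt.inl r := fun r => by
      change θ (algebraMap _ R₀ (Polynomial.C r)) = _
      rw [hθ, Polynomial.eval₂_C]; rfl
    rw [hφθ, hφθ] at hmain
    have hs := congrArg TrivSqZeroExt.snd hmain
    simp at hs
    exact hu (by linear_combination -hs)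

theorem mem_of_isUnit {Y : Over S} {u : Γ(Y.left, ⊤)} (hu : IsUnit (1 + F.lam Y * u)) : F.mem u :=
  F.mem_of_points fun p =>
    haveI : IsAffine (ptObj Y p).left := inferInstanceAs (IsAffine (Spec (Y.left.residueField p)))
    F.mem_of_field (ptObj Y p) (isField_ptObj Y p) _ (by
    have h := hu.map (ptHom Y p).left.appTop.hom
    have hn : Nontrivial Γ((ptObj Y p).left, ⊤) := (isField_ptObj Y p).nontrivial
    rw [map_add, map_one, map_mul, F.lam_comp] at h
    exact h.ne_zero)

include hk in
theorem val_eq_one_of_lam_eq_zero (h0 : F.lam X = 0) {Y : Over S} (c : Y ⟶ X) (u : Γ(Y.left, ⊤)) :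
    F.val u = 1 := by
  letI := hk.toField
  let φ : Γ(X.left, ⊤) →+* Polynomial Γ(X.left, ⊤) := Polynomial.C
  let v := fn X φ Polynomial.X
  have hl : F.lam (ext X φ) = 0 := by rw [← F.lam_comp (extHom X φ), h0, map_zero]
  have hv : F.mem v := F.mem_of_isUnit (by rw [hl, zero_mul, add_zero]; exact isUnit_one)
  obtain ⟨A, hA⟩ := (fn X φ).surjective (F.val v)
  have hAu : IsUnit A := by
    have := F.isUnit_val hv
    rw [← hA] at this
    simpa using this.map (fn X φ).symm
  obtain ⟨r, -, rfl⟩ := Polynomial.isUnit_iff.1 hAu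
  have he : ∀ s : Γ(Y.left, ⊤), F.val s = c.left.appTop r := fun s => by
    obtain ⟨d, -, hd⟩ := exists_toExt φ c (Polynomial.eval₂RingHom c.left.appTop.hom s)
      (RingHom.ext fun b => by simp [φ])
    have h := F.val_comp d hv
    rw [← hA, hd, hd] at h
    simp only [Polynomial.coe_eval₂RingHom, Polynomial.eval₂_X, Polynomial.eval₂_C] at h
    exact h
  rw [he u, ← he 0, F.val_zero]

include hk in
theorem formula_field {u : Γ(X.left, ⊤)} (h : F.mem u) : F.val u * (1 + F.lam X * u) = 1 := by
  by_cases h0 : F.lam X = 0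
  · rw [F.val_eq_one_of_lam_eq_zero X hk h0 (𝟙 X), h0, zero_mul, add_zero, _root_.mul_one]
  · exact (isUnit_of_ne_zero X hk h0).mul_right_inj.1 ((F.alg_identity h).trans (_root_.mul_one _).symm)

include hk in
theorem formula_over_field {Y : Over S} (c : Y ⟶ X) {u : Γ(Y.left, ⊤)} (h : F.mem u) :
    F.val u * (1 + F.lam Y * u) = 1 := by
  by_cases h0 : F.lam X = 0
  · rw [F.val_eq_one_of_lam_eq_zero X hk h0 c, ← F.lam_comp c, h0, map_zero, zero_mul, add_zero,
      _root_.mul_one]
  · have hl : IsUnit (F.lam Y) := F.lam_comp c ▸ (isUnit_of_ne_zero X hk h0).map c.left.appTop.hom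
    exact hl.mul_right_inj.1 ((F.alg_identity h).trans (_root_.mul_one _).symm)

end Field

theorem formula {X : Over S} (hl : IsUnit (F.lam X)) {u : Γ(X.left, ⊤)} (h : F.mem u) :
    F.val u * (1 + F.lam X * u) = 1 :=
  hl.mul_right_inj.1 ((F.alg_identity h).trans (_root_.mul_one _).symm)

end FEq

end Groth.Agent.H82.BigCell
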