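import Groth.Agent.H82.BigCell.Laws

/-!
# The rank-one situation over fields: the coefficients agree and are non-zero
-/

set_option autoImplicit false
set_option linter.style.haveILetI false
set_option linter.unusedSectionVars false
universe u

open CategoryTheory MonoidalCategory CartesianMonoidalCategory MonObj GrpObj AlgebraicGeometry
open Groth.Agent.Lib.RedPts Groth.Agent.Lib.Tori.BaseChange
open Groth.Agent.H82.RankOne (P P_eq P_add P_zero P_neg P_comp gmPt_eq gmPt_comp)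

namespace Groth.Agent.H82.BigCell

variable {S : Scheme.{u}} {G T : Over S} [GrpObj G] [GrpObj T]

theorem eq_of_injective_ringHom {X X' : Over S} [IsAffine X.left] [IsAffine X'.left] {Y : Scheme.{u}} [IsAffine Y]
    (c : X' ⟶ X) (hc : Function.Injective c.left.appTop) (a b : X.left ⟶ Y) (e : c.left ≫ a = c.left ≫ b) :
    a = b := by
  refine ext_of_isAffine ?_
  ext r
  exact hc (congrArg (fun z => (Scheme.Hom.appTop z).hom r) e)

-- A point of a torus with polynomial coordinates over a field is constant.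
set_option maxHeartbeats 1000000 in
theorem eq_one_of_polynomial (hT : Red.IsTorus T) (X : Over S) [IsAffine X.left] (hk : IsField Γ(X.left, ⊤))
    (B : ext X (Polynomial.C : Γ(X.left, ⊤) →+* Polynomial Γ(X.left, ⊤)) ⟶ T)
    (h : extMap Polynomial.C (RingHom.id _) (𝟙 X) (Polynomial.evalRingHom 0) (by ext; simp) ≫ B = 1) :
    B = 1 := by
  have hne : Nonempty ↥X.left := by
    have := hk.nontrivial
    rw [← not_isEmpty_iff]
    intro he
    have : Subsingleton Γ(X.left, ⊤) := inferInstance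
    exact false_of_nontrivial_of_subsingleton Γ(X.left, ⊤)
  have hT' := Groth.Agent.Lib.Tori.Basic.isAffineHom_of_isTorus hT
  obtain ⟨S', f, hf, hs, -, hloc⟩ := hT
  obtain ⟨p⟩ := hne
  obtain ⟨s', hs'⟩ := f.surjective (X.hom p)
  obtain ⟨U, hU, r, ⟨e⟩⟩ := hloc s'
  let g : (U : Scheme.{u}) ⟶ S := U.ι ≫ f
  obtain ⟨q, -, -⟩ := Scheme.Pullback.exists_preimage_pullback (f := X.hom) (g := g) p ⟨s', hU⟩
    (by change X.hom p = f s'; exact hs'.symm)
  let P₀ : Over S := Over.mk (Limits.pullback.fst X.hom g ≫ X.hom)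
  let XL : Over S := ptObj P₀ q
  haveI : IsAffine XL.left := inferInstanceAs (IsAffine (Spec (P₀.left.residueField q)))
  have hL : IsField Γ(XL.left, ⊤) := isField_ptObj P₀ q
  let cL : XL ⟶ X := ptHom P₀ q ≫ Over.homMk (Limits.pullback.fst X.hom g) rfl
  let φL : Γ(X.left, ⊤) →+* Γ(XL.left, ⊤) := cL.left.appTop.hom
  let X2 : Over S := ext XL (Polynomial.C : Γ(XL.left, ⊤) →+* Polynomial Γ(XL.left, ⊤))
  let j : X2 ⟶ ext X (Polynomial.C : Γ(X.left, ⊤) →+* Polynomial Γ(X.left, ⊤)) :=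
    extMap Polynomial.C Polynomial.C cL (Polynomial.mapRingHom φL) (RingHom.ext fun a => by simp [φL])
  let g2 : X2.left ⟶ (U : Scheme.{u}) :=
    (extHom XL Polynomial.C).left ≫ P₀.left.fromSpecResidueField q ≫ Limits.pullback.snd X.hom g
  have hg2 : g2 ≫ g = X2.hom := by
    rw [← Over.w (extHom XL Polynomial.C)]
    simp only [g2, Category.assoc]
    congr 1
    change _ = P₀.left.fromSpecResidueField q ≫ Limits.pullback.fst X.hom g ≫ X.hom
    rw [Limits.pullback.condition]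
  let Y2 : Over (U : Scheme.{u}) := Over.mk g2
  let iso2 : (Over.map g).obj Y2 ≅ X2 := Over.isoMk (Iso.refl _) ((Category.id_comp _).trans hg2.symm)
  let b2 : Y2 ⟶ Red.DS (U : Scheme.{u}) (Fin r → ℤ) :=
    BC.up g (iso2.hom ≫ j ≫ B) ≫ (overIso e).hom
  -- units of `L[X]` are constant
  letI := hL.toField
  have hconst : ∀ m, ∃ a : Γ(XL.left, ⊤),
      Gm.dsFn (X := Y2) b2 m = fn XL (Polynomial.C : Γ(XL.left, ⊤) →+* _) (Polynomial.C a) := fun m => by
    obtain ⟨z, hz⟩ := (fn XL (Polynomial.C : Γ(XL.left, ⊤) →+* _)).surjective (Gm.dsFn (X := Y2) b2 m)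
    have hu : IsUnit z := by
      have := Gm.isUnit_dsFn b2 m
      have := this.map (fn XL (Polynomial.C : Γ(XL.left, ⊤) →+* _)).symm
      rw [← hz, RingEquiv.symm_apply_apply] at this
      exact this
    obtain ⟨a, -, rfl⟩ := Polynomial.isUnit_iff.1 hu
    exact ⟨a, hz.symm⟩
  let z2 : ext XL (RingHom.id _) ⟶ X2 :=
    extMap Polynomial.C (RingHom.id _) (𝟙 XL) (Polynomial.evalRingHom 0) (by ext; simp)
  let Y0 : Over (U : Scheme.{u}) := Over.mk (z2.left ≫ g2)
  let z0 : Y0 ⟶ Y2 := Over.homMk z2.left rfl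
  have hz0 : z2 ≫ j ≫ B = 1 := by
    let d0 : ext XL (RingHom.id _) ⟶ ext X (RingHom.id _) :=
      extMap (RingHom.id _) (RingHom.id _) cL φL rfl
    have : z2 ≫ j = d0 ≫ extMap Polynomial.C (RingHom.id _) (𝟙 X) (Polynomial.evalRingHom 0) (by ext; simp) := by
      ext
      change Spec.map _ ≫ Spec.map _ = Spec.map _ ≫ Spec.map _
      rw [← Spec.map_comp, ← Spec.map_comp, ← CommRingCat.ofHom_comp, ← CommRingCat.ofHom_comp]
      congr 2
      refine Polynomial.ringHom_ext (fun a => ?_) ?_ <;> simp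
    rw [← Category.assoc, this, Category.assoc, h, MonObj.comp_one]
  have hb0 : z0 ≫ b2 = 1 := by
    have h1 : z0 ≫ BC.up g (iso2.hom ≫ j ≫ B) = 1 := by
      apply BC.down_injective
      rw [BC.down_comp, BC.down_up, BC.down_one]
      let iso0 : (Over.map g).obj Y0 ≅ ext XL (RingHom.id _) := Over.isoMk (Iso.refl _) (by
        change 𝟙 _ ≫ _ = (z2.left ≫ g2) ≫ g
        rw [Category.id_comp, Category.assoc, hg2, Over.w z2])
      have e0 : (Over.map g).map z0 ≫ iso2.hom = iso0.hom ≫ z2 := by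
        ext
        simp [z0, iso0, iso2]
      rw [reassoc_of% e0, hz0, MonObj.comp_one]
    change z0 ≫ BC.up g (iso2.hom ≫ j ≫ B) ≫ (overIso e).hom = 1
    rw [← Category.assoc, h1]
    have : IsMonHom (overIso e).hom := e.hom.hom.isMonHom_hom
    exact MonObj.one_comp (overIso e).hom
  have hb2 : b2 = 1 := Gm.dsFn_ext fun m => by
    obtain ⟨a, ha⟩ := hconst m
    rw [Gm.dsFn_one, ha]
    have h2 := congrArg (fun w => Gm.dsFn w m) hb0
    simp only [Gm.dsFn_comp, Gm.dsFn_one] at h2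
    have h2' : z2.left.appTop (Gm.dsFn (X := Y2) b2 m) = 1 := h2
    rw [ha, extMap_fn, Polynomial.coe_evalRingHom, Polynomial.eval_C, ← map_one (fn XL (RingHom.id _))] at h2'
    rw [(fn XL (RingHom.id _)).injective h2', map_one, map_one]
  have hjB : j ≫ B = 1 := by
    have h1 : BC.up g (iso2.hom ≫ j ≫ B) = 1 := by
      have : IsMonHom (overIso e).hom := e.hom.hom.isMonHom_hom
      rw [← cancel_mono (overIso e).hom]
      exact hb2.trans (MonObj.one_comp (overIso e).hom).symm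
    have := congrArg (BC.down g) h1
    rw [BC.down_up, BC.down_one] at this
    rw [← cancel_epi iso2.hom, this, MonObj.comp_one]
  -- descend to the affine pullback of `T`
  let X1 : Over S := ext X (Polynomial.C : Γ(X.left, ⊤) →+* Polynomial Γ(X.left, ⊤))
  let Q := Limits.pullback T.hom X.hom
  haveI : IsAffine Q := isAffine_of_isAffineHom (Limits.pullback.snd T.hom X.hom)
  let lft : (X1 ⟶ T) → (X1.left ⟶ Q) := fun b =>
    Limits.pullback.lift b.left (extHom X Polynomial.C).left (by rw [Over.w, Over.w])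
  have hinj : Function.Injective j.left.appTop := by
    intro a a' haa
    obtain ⟨u, rfl⟩ := (fn X (Polynomial.C : Γ(X.left, ⊤) →+* _)).surjective a
    obtain ⟨u', rfl⟩ := (fn X (Polynomial.C : Γ(X.left, ⊤) →+* _)).surjective a'
    rw [extMap_fn, extMap_fn] at haa
    letI := hk.toField
    exact congrArg _ (Polynomial.map_injective φL φL.injective
      ((fn XL (Polynomial.C : Γ(XL.left, ⊤) →+* _)).injective haa))
  have heq : lft B = lft 1 := eq_of_injective_ringHom j hinj _ _ (by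
    apply Limits.pullback.hom_ext
    · simp only [lft, Category.assoc, Limits.pullback.lift_fst]
      exact congrArg Over.Hom.left (hjB.trans (MonObj.comp_one j).symm)
    · simp only [lft, Category.assoc, Limits.pullback.lift_snd])
  apply Over.OverMorphism.ext
  have := congrArg (fun m => m ≫ Limits.pullback.fst T.hom X.hom) heq
  simpa [lft, Limits.pullback.lift_fst] using this

namespace Hyp

variable {i : T ⟶ G} {α : T ⟶ Red.Gm S} {pp pm : Red.Ga S ⟶ G}
  [IsMonHom i] [IsMonHom α] [IsMonHom pp] [IsMonHom pm] (H : Hyp i α pp pm)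
include H

theorem lam_comp {X X' : Over S} (c : X' ⟶ X) : c.left.appTop (H.lam X) = H.lam X' := H.aF.lam_comp c

theorem mu_comp {X X' : Over S} (c : X' ⟶ X) : c.left.appTop (H.mu X) = H.mu X' := H.cF.lam_comp c

/-- The relation after a generic cover. -/
theorem lam_mul_sub {X : Over S} [IsAffine X.left]
    (hg : ∀ (X' : Over S) (_c : X' ⟶ X) [IsAffine X'.left], H.Good X') :
    H.lam X * (H.lam X - H.mu X) = 0 := by
  let l := H.lam X
  let m := H.mu X
  obtain ⟨X', c, t, hX', hc, -, hu, -⟩ := exists_generic X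
    ![Polynomial.X, 1 + Polynomial.C l * Polynomial.X, 1 + Polynomial.C m * Polynomial.X,
      1 + Polynomial.X ^ 2, 1 + Polynomial.X ^ 3,
      1 + Polynomial.C l * (Polynomial.X * (1 + Polynomial.X ^ 2)),
      1 + Polynomial.C l * (Polynomial.X * (1 + Polynomial.X ^ 3)),
      1 + Polynomial.C m * Polynomial.X + Polynomial.C l * Polynomial.X ^ 3,
      1 + Polynomial.C m * Polynomial.X + Polynomial.C l * Polynomial.X ^ 4,
      Polynomial.X ^ 2 - Polynomial.X ^ 3]
    (fun k => by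
      fin_cases k
      · exact ⟨1, by simp⟩
      iterate 8 exact ⟨0, by simp⟩
      exact ⟨2, by simp⟩)
  have h0 := hu 0; have h1 := hu 1; have h2 := hu 2; have h3 := hu 3; have h4 := hu 4
  have h5 := hu 5; have h6 := hu 6; have h7 := hu 7; have h8 := hu 8; have h9 := hu 9
  simp at h0 h1 h2 h3 h4 h5 h6 h7 h8 h9
  have el : c.left.appTop l = H.lam X' := H.lam_comp c
  have em : c.left.appTop m = H.mu X' := H.mu_comp c
  rw [el] at h1 h5 h6 h7 h8
  rw [em] at h2 h7 h8
  obtain ⟨u, hu0⟩ := h0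
  obtain ⟨Kl, e1⟩ := h1
  obtain ⟨Km, e2⟩ := h2
  obtain ⟨s1, e3⟩ := h3
  obtain ⟨s1', e4⟩ := h4
  obtain ⟨L, e5⟩ := h5
  obtain ⟨L', e6⟩ := h6
  obtain ⟨N, e7⟩ := h7
  obtain ⟨N', e8⟩ := h8
  haveI := hX'
  have key := H.key_relation (hg X' c) u (u ^ 2) s1 Kl Km L N (u ^ 3) s1' L' N'
    (by rw [e1, hu0]) (by rw [e2, hu0]) (by rw [e3, Units.val_pow_eq_pow_val, hu0])
    (by rw [e5, Units.val_pow_eq_pow_val, hu0]; ring)
    (by rw [e7, e2, Units.val_pow_eq_pow_val, hu0]; ring)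
    (by rw [e4, Units.val_pow_eq_pow_val, hu0])
    (by rw [e6, Units.val_pow_eq_pow_val, hu0]; ring)
    (by rw [e8, e2, Units.val_pow_eq_pow_val, hu0]; ring)
    (by rw [Units.val_pow_eq_pow_val, Units.val_pow_eq_pow_val, hu0]; exact h9)
  refine fn_eq_of_epi hc ?_
  simp only [map_mul, map_sub, map_zero, H.lam_comp, H.mu_comp]
  exact key

theorem mu_eq_zero_of_lam_eq_zero (X : Over S) [IsAffine X.left] (hk : IsField Γ(X.left, ⊤))
    (hg : ∀ (X' : Over S) (_c : X' ⟶ X) [IsAffine X'.left], H.Good X')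
    (hl : H.lam X = 0) : H.mu X = 0 := by
  letI := hk.toField
  let m := H.mu X
  obtain ⟨X', c, t, hX', hc, -, hu, hinj⟩ := exists_generic X
    ![Polynomial.X, Polynomial.X + Polynomial.X ^ 2, 1 + Polynomial.C m * Polynomial.X,
      1 + Polynomial.C m * Polynomial.X ^ 2, 1 + Polynomial.C m * (Polynomial.X + Polynomial.X ^ 2),
      1 + Polynomial.X]
    (fun k => by
      fin_cases k
      · exact ⟨1, by simp⟩
      · exact ⟨1, by simp⟩
      all_goals exact ⟨0, by simp⟩)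
  have h0 := hu 0; have h1 := hu 1; have h2 := hu 2; have h3 := hu 3; have h4 := hu 4; have h5 := hu 5
  simp at h0 h1 h2 h3 h4 h5
  have el : H.lam X' = 0 := by rw [← H.lam_comp c, hl, map_zero]
  have em : c.left.appTop m = H.mu X' := H.mu_comp c
  rw [em] at h2 h3 h4
  obtain ⟨u, hu0⟩ := h0
  obtain ⟨w, hw⟩ := h1
  obtain ⟨Ku, e2⟩ := h2
  obtain ⟨Kv, e3⟩ := h3
  obtain ⟨Kw, e4⟩ := h4
  obtain ⟨t1, e5⟩ := h5
  haveI := hX'
  have one_eq : ∀ a : Γ(X'.left, ⊤), ((1 : Γ(X'.left, ⊤)ˣ) : Γ(X'.left, ⊤)) = 1 + H.lam X' * a := fun a => by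
    rw [el, zero_mul, add_zero, Units.val_one]
  obtain ⟨Bv, dv⟩ := H.dec_unit_one (hg X' c) (u * u) 1 Kv (one_eq _)
    (by rw [e3, Units.val_mul, hu0, pow_two])
  obtain ⟨Bu, du⟩ := H.dec_unit_one (hg X' c) u 1 Ku (one_eq _) (by rw [e2, hu0])
  obtain ⟨Bw, dw⟩ := H.dec_unit_one (hg X' c) w 1 Kw (one_eq _) (by rw [e4, hw])
  have hβ := H.key_eq (hg X' c) (u * u) u t1 1 Kv 1 Kv (one_eq _)
    (by rw [e3, Units.val_mul, hu0, pow_two]) (by rw [e5, hu0]) (by rw [el]; simp)
    (by rw [el]; simp) dv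
  simp only [Units.val_one, _root_.mul_one] at hβ
  have hβ1 : Red.gmFn (Bv ≫ α⁻¹) = 1 := Kv.isUnit.mul_left_inj.1 (hβ.trans (_root_.one_mul _).symm)
  simp only [inv_one, Units.val_one] at dv du dw
  have h3 := H.mulL dv du
  rw [show (u : Γ(X'.left, ⊤)) + ((u * u : Γ(X'.left, ⊤)ˣ) : Γ(X'.left, ⊤)) = (w : Γ(X'.left, ⊤)) by
    rw [hw, Units.val_mul, hu0, pow_two]] at h3
  obtain ⟨-, -, eC⟩ := H.unique h3 dw
  rw [hβ1, _root_.one_mul, Units.val_mul, hu0, hw] at eC
  have hid : H.mu X' * t ^ 3 * (2 + H.mu X' * (t + t ^ 2)) = 0 := by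
    have a2 : (Ku : Γ(X'.left, ⊤)) = 1 + H.mu X' * t := e2
    have a3 : (Kv : Γ(X'.left, ⊤)) = 1 + H.mu X' * t ^ 2 := e3
    have a4 : (Kw : Γ(X'.left, ⊤)) = 1 + H.mu X' * (t + t ^ 2) := e4
    linear_combination ((Ku : Γ(X'.left, ⊤)) * (Kv : Γ(X'.left, ⊤)) * (Kw : Γ(X'.left, ⊤))) * eC
      - t * (Kv : Γ(X'.left, ⊤)) * (Kw : Γ(X'.left, ⊤)) * Ku.mul_inv
      - t * t * (Ku : Γ(X'.left, ⊤)) * (Kw : Γ(X'.left, ⊤)) * Kv.mul_inv
      + (t + t ^ 2) * (Ku : Γ(X'.left, ⊤)) * (Kv : Γ(X'.left, ⊤)) * Kw.mul_inv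
      - (t * (Kw : Γ(X'.left, ⊤)) - (t + t ^ 2) * (1 + H.mu X' * t)) * a3
      - (t * t * (Kw : Γ(X'.left, ⊤)) - (t + t ^ 2) * (Kv : Γ(X'.left, ⊤))) * a2
      - (t * (1 + H.mu X' * t ^ 2) + t ^ 2 * (1 + H.mu X' * t)) * a4
  have h0 := hinj hk.isDomain (Polynomial.C m * Polynomial.X ^ 3 *
    (2 + Polynomial.C m * (Polynomial.X + Polynomial.X ^ 2))) (by simpa [em] using hid)
  have h4 := congrArg (fun p => Polynomial.coeff p 4) h0
  rw [show Polynomial.C m * Polynomial.X ^ 3 * (2 + Polynomial.C m * (Polynomial.X + Polynomial.X ^ 2)) =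
    Polynomial.C (m * 2) * Polynomial.X ^ 3 + Polynomial.C (m * m) * Polynomial.X ^ 4
      + Polynomial.C (m * m) * Polynomial.X ^ 5 by rw [map_mul, map_mul, Polynomial.C_ofNat]; ring] at h4
  simp only [Polynomial.coeff_add, Polynomial.coeff_C_mul_X_pow, Polynomial.coeff_zero] at h4
  simp at h4
  exact h4

end Hyp

end Groth.Agent.H82.BigCell
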