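import Groth.Agent.H82.BigCell.Cell
import Groth.Agent.Lib.Tori.Basic

/-!
# The linear coefficients of the commutation rule
-/

set_option autoImplicit false
set_option linter.style.haveILetI false
set_option linter.unusedSectionVars false
universe u

open CategoryTheory MonoidalCategory CartesianMonoidalCategory MonObj GrpObj AlgebraicGeometry
open Groth.Agent.Lib.RedPts Groth.Agent.Lib.Tori.BaseChange
open Groth.Agent.H82.RankOne (P P_eq P_add P_zero P_neg P_comp gmPt_eq gmPt_comp)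

namespace Groth.Agent.H82.BigCell

variable {S : Scheme.{u}} {G T : Over S} [GrpObj G] [GrpObj T]
  {i : T ⟶ G} {α : T ⟶ Red.Gm S} {pp pm : Red.Ga S ⟶ G}
  [IsMonHom i] [IsMonHom α] [IsMonHom pp] [IsMonHom pm]

namespace Hyp

variable (H : Hyp i α pp pm)

/-- `(u, 1)` lies in the big cell with unit first coordinate. -/
def aMem (_H : Hyp i α pp pm) {X : Over S} (u : Γ(X.left, ⊤)) : Prop :=
  ∃ A B C, Dec i pp pm u 1 A B C ∧ IsUnit A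

open Classical in
/-- The first coordinate at `(u, 1)`. -/
noncomputable def aVal {X : Over S} (u : Γ(X.left, ⊤)) : Γ(X.left, ⊤) :=
  if h : H.aMem u then h.choose else 1

/-- `(1, u)` lies in the big cell with unit last coordinate. -/
def cMem (_H : Hyp i α pp pm) {X : Over S} (u : Γ(X.left, ⊤)) : Prop :=
  ∃ A B C, Dec i pp pm 1 u A B C ∧ IsUnit C

open Classical in
/-- The last coordinate at `(1, u)`. -/
noncomputable def cVal {X : Over S} (u : Γ(X.left, ⊤)) : Γ(X.left, ⊤) :=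
  if h : H.cMem u then h.choose_spec.choose_spec.choose else 1

include H

theorem aVal_spec {X : Over S} {u : Γ(X.left, ⊤)} (h : H.aMem u) :
    (∃ B C, Dec i pp pm u 1 (H.aVal u) B C) ∧ IsUnit (H.aVal u) := by
  rw [aVal, dif_pos h]
  exact ⟨⟨_, _, h.choose_spec.choose_spec.choose_spec.1⟩, h.choose_spec.choose_spec.choose_spec.2⟩

theorem aVal_eq {X : Over S} {u A C : Γ(X.left, ⊤)} {B : X ⟶ T} (hd : Dec i pp pm u 1 A B C)
    (hu : IsUnit A) : H.aMem u ∧ H.aVal u = A := by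
  have h : H.aMem u := ⟨A, B, C, hd, hu⟩
  obtain ⟨⟨B', C', h'⟩, -⟩ := H.aVal_spec h
  exact ⟨h, (H.unique h' hd).1⟩

theorem cVal_spec {X : Over S} {u : Γ(X.left, ⊤)} (h : H.cMem u) :
    (∃ A B, Dec i pp pm 1 u A B (H.cVal u)) ∧ IsUnit (H.cVal u) := by
  rw [cVal, dif_pos h]
  exact ⟨⟨_, _, h.choose_spec.choose_spec.choose_spec.1⟩, h.choose_spec.choose_spec.choose_spec.2⟩

theorem cVal_eq {X : Over S} {u A C : Γ(X.left, ⊤)} {B : X ⟶ T} (hd : Dec i pp pm 1 u A B C)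
    (hu : IsUnit C) : H.cMem u ∧ H.cVal u = C := by
  have h : H.cMem u := ⟨A, B, C, hd, hu⟩
  obtain ⟨⟨A', B', h'⟩, -⟩ := H.cVal_spec h
  exact ⟨h, (H.unique h' hd).2.2⟩

theorem dec_zero_left {X : Over S} (y : Γ(X.left, ⊤)) : Dec i pp pm 0 y y 1 0 := by
  simp [Dec, P_zero, MonObj.one_comp]

theorem dec_zero_right {X : Over S} (x : Γ(X.left, ⊤)) : Dec i pp pm x 0 0 1 x := by
  simp [Dec, P_zero, MonObj.one_comp]

/-- The functional equation datum of the first coordinate. -/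
noncomputable def aF : FEq S where
  mem := H.aMem
  val := H.aVal
  mem_open {X} u := by
    obtain ⟨O, hO⟩ := H.cell_open (P pp u * P pm 1) (fun A _ => A) (fun _ _ _ => rfl)
    refine ⟨O, fun {X'} c => ?_⟩
    rw [← hO c]
    simp only [aMem, Dec, Cell, MonObj.comp_mul, P_comp, map_one]
  mem_zero := ⟨1, 1, 0, H.dec_zero_left 1, isUnit_one⟩
  val_zero := (H.aVal_eq (H.dec_zero_left 1) isUnit_one).2
  val_comp {_ _} c {u} h := by
    obtain ⟨⟨B, C, hd⟩, hu⟩ := H.aVal_spec h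
    have hd' := dec_comp c hd
    rw [map_one] at hd'
    exact (H.aVal_eq hd' (hu.map c.left.appTop.hom)).2
  isUnit_val h := (H.aVal_spec h).2
  law {X u v} hv hw := by
    obtain ⟨⟨B, C, h1⟩, ⟨a, ha⟩⟩ := H.aVal_spec hv
    obtain ⟨⟨B', C', h2⟩, hu2⟩ := H.aVal_spec hw
    have h3 := H.scale a⁻¹ h2
    rw [_root_.inv_inv, _root_.mul_one, ha] at h3
    rw [show (↑a⁻¹ : Γ(X.left, ⊤)) * (u * H.aVal v) = u by
      rw [mul_comm u, ← _root_.mul_assoc, ← ha, Units.inv_mul, _root_.one_mul]] at h3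
    exact H.aVal_eq (H.mulL h1 h3) ((ha ▸ a.isUnit).mul hu2)

/-- The functional equation datum of the last coordinate. -/
noncomputable def cF : FEq S where
  mem := H.cMem
  val := H.cVal
  mem_open {X} u := by
    obtain ⟨O, hO⟩ := H.cell_open (P pp 1 * P pm u) (fun _ C => C) (fun _ _ _ => rfl)
    refine ⟨O, fun {X'} c => ?_⟩
    rw [← hO c]
    simp only [cMem, Dec, Cell, MonObj.comp_mul, P_comp, map_one]
  mem_zero := ⟨0, 1, 1, H.dec_zero_right 1, isUnit_one⟩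
  val_zero := (H.cVal_eq (H.dec_zero_right 1) isUnit_one).2
  val_comp {_ _} c {u} h := by
    obtain ⟨⟨A, B, hd⟩, hu⟩ := H.cVal_spec h
    have hd' := dec_comp c hd
    rw [map_one] at hd'
    exact (H.cVal_eq hd' (hu.map c.left.appTop.hom)).2
  isUnit_val h := (H.cVal_spec h).2
  law {X u v} hv hw := by
    obtain ⟨⟨A, B, h1⟩, ⟨a, ha⟩⟩ := H.cVal_spec hv
    obtain ⟨⟨A', B', h2⟩, hu2⟩ := H.cVal_spec hw
    have h3 := H.scale a h2
    rw [_root_.mul_one, ha] at h3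
    rw [show (↑a⁻¹ : Γ(X.left, ⊤)) * (u * H.cVal v) = u by
      rw [mul_comm u, ← _root_.mul_assoc, ← ha, Units.inv_mul, _root_.one_mul]] at h3
    rw [add_comm u v]
    exact H.cVal_eq (H.mulR h1 h3) ((ha ▸ a.isUnit).mul hu2)

/-- The coefficient in the first coordinate. -/
noncomputable abbrev lam (X : Over S) : Γ(X.left, ⊤) := H.aF.lam X

/-- The coefficient in the last coordinate. -/
noncomputable abbrev mu (X : Over S) : Γ(X.left, ⊤) := H.cF.lam X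

/-- The formulas for both coordinates hold on `X`. -/
def Good (X : Over S) : Prop :=
  (∀ u : Γ(X.left, ⊤), H.aMem u → H.aVal u * (1 + H.lam X * u) = 1) ∧
  (∀ u : Γ(X.left, ⊤), H.cMem u → H.cVal u * (1 + H.mu X * u) = 1)

theorem good_of_field (X : Over S) [IsAffine X.left] (hk : IsField Γ(X.left, ⊤)) : H.Good X :=
  ⟨fun _ h => H.aF.formula_field X hk h, fun _ h => H.cF.formula_field X hk h⟩

theorem good_over_field (X : Over S) [IsAffine X.left] (hk : IsField Γ(X.left, ⊤)) {Y : Over S} (c : Y ⟶ X) :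
    H.Good Y :=
  ⟨fun _ h => H.aF.formula_over_field X hk c h, fun _ h => H.cF.formula_over_field X hk c h⟩

theorem good_of_isUnit {X : Over S} (hl : IsUnit (H.lam X)) (hm : IsUnit (H.mu X)) : H.Good X :=
  ⟨fun _ h => H.aF.formula hl h, fun _ h => H.cF.formula hm h⟩

theorem dec_unit_one {X : Over S} (hg : H.Good X) (u : Γ(X.left, ⊤)ˣ) (Kl Km : Γ(X.left, ⊤)ˣ)
    (hl : (Kl : Γ(X.left, ⊤)) = 1 + H.lam X * (u : Γ(X.left, ⊤)))
    (hm : (Km : Γ(X.left, ⊤)) = 1 + H.mu X * (u : Γ(X.left, ⊤))) :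
    ∃ B, Dec i pp pm (u : Γ(X.left, ⊤)) 1 (↑Kl⁻¹ : Γ(X.left, ⊤)) B
      ((u : Γ(X.left, ⊤)) * (↑Km⁻¹ : Γ(X.left, ⊤))) := by
  have ha : H.aMem (u : Γ(X.left, ⊤)) := H.aF.mem_of_isUnit (hl ▸ Kl.isUnit)
  have hc : H.cMem (u : Γ(X.left, ⊤)) := H.cF.mem_of_isUnit (hm ▸ Km.isUnit)
  obtain ⟨⟨B, C, h1⟩, -⟩ := H.aVal_spec ha
  obtain ⟨⟨A', B', h2⟩, -⟩ := H.cVal_spec hc
  have h3 := H.scale u h2
  rw [_root_.mul_one, Units.inv_mul] at h3
  have ea : H.aVal (u : Γ(X.left, ⊤)) = ↑Kl⁻¹ := by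
    rw [eq_comm]; refine Units.inv_eq_of_mul_eq_one_left ?_
    rw [hl]; exact hg.1 _ ha
  have ec : H.cVal (u : Γ(X.left, ⊤)) = ↑Km⁻¹ := by
    rw [eq_comm]; refine Units.inv_eq_of_mul_eq_one_left ?_
    rw [hm]; exact hg.2 _ hc
  obtain ⟨-, -, eC⟩ := H.unique h1 h3
  exact ⟨B, by rw [← ea, ← ec, ← eC]; exact h1⟩

/-- The relation between `β`, `λ` and `μ`. -/
theorem key_eq {X : Over S} (hg : H.Good X) (u s s1 Kl Km L N : Γ(X.left, ⊤)ˣ)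
    (hl : (Kl : Γ(X.left, ⊤)) = 1 + H.lam X * (u : Γ(X.left, ⊤)))
    (hm : (Km : Γ(X.left, ⊤)) = 1 + H.mu X * (u : Γ(X.left, ⊤)))
    (hs : (s1 : Γ(X.left, ⊤)) = 1 + (s : Γ(X.left, ⊤)))
    (hL : (L : Γ(X.left, ⊤)) = 1 + H.lam X * (u : Γ(X.left, ⊤)) * (1 + (s : Γ(X.left, ⊤))))
    (hN : (N : Γ(X.left, ⊤)) = (Km : Γ(X.left, ⊤)) + H.lam X * (u : Γ(X.left, ⊤)) * (s : Γ(X.left, ⊤)))
    {A C : Γ(X.left, ⊤)} {B : X ⟶ T} (hd : Dec i pp pm (u : Γ(X.left, ⊤)) 1 A B C) :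
    Red.gmFn (B ≫ α⁻¹) * (Km : Γ(X.left, ⊤)) * (L : Γ(X.left, ⊤)) * (Kl : Γ(X.left, ⊤)) =
      (N : Γ(X.left, ⊤)) := by
  obtain ⟨B₀, h0⟩ := H.dec_unit_one hg u Kl Km hl hm
  obtain ⟨eA, eB, eC⟩ := H.unique hd h0
  subst eA eB eC
  let w : Γ(X.left, ⊤)ˣ := u * Km⁻¹ * s
  have hw : 1 + H.lam X * (w : Γ(X.left, ⊤)) = ((N * Km⁻¹ : Γ(X.left, ⊤)ˣ) : Γ(X.left, ⊤)) := by
    simp only [w, Units.val_mul, hN]
    linear_combination -Km.mul_inv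
  have ha : H.aMem (w : Γ(X.left, ⊤)) := H.aF.mem_of_isUnit (hw ▸ Units.isUnit _)
  obtain ⟨⟨B', C', h1⟩, -⟩ := H.aVal_spec ha
  have ea : H.aVal (w : Γ(X.left, ⊤)) = ((N * Km⁻¹)⁻¹ : Γ(X.left, ⊤)ˣ) := by
    rw [eq_comm]; refine Units.inv_eq_of_mul_eq_one_left ?_
    rw [← hw]; exact hg.1 _ ha
  have h2 := H.scale s⁻¹ h1
  rw [_root_.inv_inv, _root_.mul_one, ea,
    show (↑s⁻¹ : Γ(X.left, ⊤)) * (w : Γ(X.left, ⊤)) = (u : Γ(X.left, ⊤)) * (↑Km⁻¹ : Γ(X.left, ⊤)) by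
      simp only [w, Units.val_mul]
      linear_combination ((u : Γ(X.left, ⊤)) * (↑Km⁻¹ : Γ(X.left, ⊤))) * s.mul_inv] at h2
  have h3 := H.mulR hd h2
  have ha' : H.aMem ((u * s1 : Γ(X.left, ⊤)ˣ) : Γ(X.left, ⊤)) := H.aF.mem_of_isUnit (by
    have : 1 + H.lam X * ((u * s1 : Γ(X.left, ⊤)ˣ) : Γ(X.left, ⊤)) = L := by
      rw [Units.val_mul, hs, hL]; ring
    exact this ▸ L.isUnit)
  obtain ⟨⟨B'', C'', h4⟩, -⟩ := H.aVal_spec ha'
  have ea' : H.aVal ((u * s1 : Γ(X.left, ⊤)ˣ) : Γ(X.left, ⊤)) = (L⁻¹ : Γ(X.left, ⊤)ˣ) := by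
    rw [eq_comm]; refine Units.inv_eq_of_mul_eq_one_left ?_
    rw [hL]; refine Eq.trans ?_ (hg.1 _ ha')
    rw [Units.val_mul, hs]; ring
  have h5 := H.scale s1⁻¹ h4
  rw [_root_.inv_inv, _root_.mul_one, ea',
    show (↑s1⁻¹ : Γ(X.left, ⊤)) * ((u * s1 : Γ(X.left, ⊤)ˣ) : Γ(X.left, ⊤)) = (u : Γ(X.left, ⊤)) by
      rw [Units.val_mul]; linear_combination (u : Γ(X.left, ⊤)) * s1.mul_inv, hs] at h5
  obtain ⟨e, -, -⟩ := H.unique h3 h5
  simp only [_root_.mul_inv_rev, _root_.inv_inv, Units.val_mul] at e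
  apply s.isUnit.mul_right_inj.1
  linear_combination ((Kl : Γ(X.left, ⊤)) * (L : Γ(X.left, ⊤)) * (N : Γ(X.left, ⊤))) * e
    - ((L : Γ(X.left, ⊤)) * (N : Γ(X.left, ⊤))) * Kl.mul_inv
    + ((1 + (s : Γ(X.left, ⊤))) * (N : Γ(X.left, ⊤)) * (Kl : Γ(X.left, ⊤))) * L.mul_inv
    - (Red.gmFn (B ≫ α⁻¹) * (s : Γ(X.left, ⊤)) * (Km : Γ(X.left, ⊤)) * (L : Γ(X.left, ⊤)) * (Kl : Γ(X.left, ⊤))) * N.mul_inv
    + (N : Γ(X.left, ⊤)) * (1 + (s : Γ(X.left, ⊤))) * hl - (N : Γ(X.left, ⊤)) * hL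

theorem key_relation {X : Over S} (hg : H.Good X) (u s s1 Kl Km L N s' s1' L' N' : Γ(X.left, ⊤)ˣ)
    (hl : (Kl : Γ(X.left, ⊤)) = 1 + H.lam X * (u : Γ(X.left, ⊤)))
    (hm : (Km : Γ(X.left, ⊤)) = 1 + H.mu X * (u : Γ(X.left, ⊤)))
    (hs : (s1 : Γ(X.left, ⊤)) = 1 + (s : Γ(X.left, ⊤)))
    (hL : (L : Γ(X.left, ⊤)) = 1 + H.lam X * (u : Γ(X.left, ⊤)) * (1 + (s : Γ(X.left, ⊤))))
    (hN : (N : Γ(X.left, ⊤)) = (Km : Γ(X.left, ⊤)) + H.lam X * (u : Γ(X.left, ⊤)) * (s : Γ(X.left, ⊤)))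
    (hs' : (s1' : Γ(X.left, ⊤)) = 1 + (s' : Γ(X.left, ⊤)))
    (hL' : (L' : Γ(X.left, ⊤)) = 1 + H.lam X * (u : Γ(X.left, ⊤)) * (1 + (s' : Γ(X.left, ⊤))))
    (hN' : (N' : Γ(X.left, ⊤)) = (Km : Γ(X.left, ⊤)) + H.lam X * (u : Γ(X.left, ⊤)) * (s' : Γ(X.left, ⊤)))
    (hd : IsUnit ((s : Γ(X.left, ⊤)) - (s' : Γ(X.left, ⊤)))) :
    H.lam X * (H.lam X - H.mu X) = 0 := by
  obtain ⟨B, h0⟩ := H.dec_unit_one hg u Kl Km hl hm
  have e := H.key_eq hg u s s1 Kl Km L N hl hm hs hL hN h0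
  have e' := H.key_eq hg u s' s1' Kl Km L' N' hl hm hs' hL' hN' h0
  rw [hL, hN] at e
  rw [hL', hN'] at e'
  rw [hl, hm] at e e'
  have hud := u.isUnit.mul hd
  generalize Red.gmFn (B ≫ α⁻¹) = β at e e'
  have e1 : H.lam X * (β * (1 + H.mu X * (u : Γ(X.left, ⊤))) * (1 + H.lam X * (u : Γ(X.left, ⊤))) - 1) = 0 := by
    apply hud.mul_right_inj.1
    linear_combination e - e'
  apply u.isUnit.mul_right_inj.1
  linear_combination H.lam X * e -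
    (1 + H.lam X * (u : Γ(X.left, ⊤)) * (1 + (s : Γ(X.left, ⊤)))) * e1

end Hyp

end Groth.Agent.H82.BigCell
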