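import Groth.Agent.H82.BigCell.Coeff

/-!
# The commutation formula
-/

set_option autoImplicit false
set_option linter.style.haveILetI false
set_option linter.unusedSectionVars false
universe u

open CategoryTheory MonoidalCategory CartesianMonoidalCategory MonObj GrpObj AlgebraicGeometry
open Groth.Agent.Lib.RedPts
open Groth.Agent.H82.RankOne (P P_eq P_add P_zero P_neg P_comp gmPt_eq gmPt_comp)

namespace Groth.Agent.H82.BigCell.Hyp

variable {S : Scheme.{u}} {G T : Over S} [GrpObj G] [GrpObj T]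
  {i : T ⟶ G} {α : T ⟶ Red.Gm S} {pp pm : Red.Ga S ⟶ G}
  [IsMonHom i] [IsMonHom α] [IsMonHom pp] [IsMonHom pm] (H : Hyp i α pp pm)
  (hunit : ∀ X : Over S, IsUnit (H.lam X) ∧ IsUnit (H.mu X))
include H hunit

theorem good (X : Over S) : H.Good X := H.good_of_isUnit (hunit X).1 (hunit X).2

theorem mu_eq_lam (X : Over S) : H.mu X = H.lam X := by
  refine fn_ext_affine fun X' c hX' => ?_
  rw [H.mu_comp, H.lam_comp]
  haveI := hX'
  have h := H.lam_mul_sub (X := X') fun X'' _ _ => H.good hunit X''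
  exact (sub_eq_zero.1 ((hunit X').1.mul_right_inj.1 (h.trans (mul_zero _).symm))).symm

/-- The parameter with `1 + λ u = z`. -/
noncomputable def par {X : Over S} (z : Γ(X.left, ⊤)ˣ) : Γ(X.left, ⊤) :=
  ((z : Γ(X.left, ⊤)) - 1) * (↑(hunit X).1.unit⁻¹ : Γ(X.left, ⊤))

theorem lam_mul_par {X : Over S} (z : Γ(X.left, ⊤)ˣ) :
    1 + H.lam X * H.par hunit z = (z : Γ(X.left, ⊤)) := by
  have := (hunit X).1.mul_val_inv
  rw [par]
  linear_combination ((z : Γ(X.left, ⊤)) - 1) * this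

theorem par_eq {X : Over S} (z : Γ(X.left, ⊤)ˣ) {w : Γ(X.left, ⊤)}
    (h : (z : Γ(X.left, ⊤)) = 1 + H.lam X * w) : H.par hunit z = w :=
  (hunit X).1.mul_right_inj.1 (by linear_combination H.lam_mul_par hunit z + h)

theorem par_mem {X : Over S} (z : Γ(X.left, ⊤)ˣ) : H.aMem (H.par hunit z) :=
  H.aF.mem_of_isUnit (by rw [show H.aF.lam X = H.lam X from rfl, H.lam_mul_par hunit]; exact z.isUnit)

/-- The coroot on points. -/
noncomputable def avPt {X : Over S} (z : Γ(X.left, ⊤)ˣ) : X ⟶ T :=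
  (H.aVal_spec (H.par_mem hunit z)).1.choose

theorem avPt_spec {X : Over S} (z : Γ(X.left, ⊤)ˣ) :
    ∃ C, Dec i pp pm (H.par hunit z) 1 (↑z⁻¹ : Γ(X.left, ⊤)) (H.avPt hunit z) C := by
  obtain ⟨C, hC⟩ := (H.aVal_spec (H.par_mem hunit z)).1.choose_spec
  refine ⟨C, ?_⟩
  have e : H.aVal (H.par hunit z) = ↑z⁻¹ := by
    rw [eq_comm]; refine Units.inv_eq_of_mul_eq_one_left ?_
    rw [← H.lam_mul_par hunit z]
    exact (H.good hunit X).1 _ (H.par_mem hunit z)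
  rw [← e]
  exact hC

theorem avPt_eq {X : Over S} {z : Γ(X.left, ⊤)ˣ} {w A C : Γ(X.left, ⊤)} {B : X ⟶ T}
    (h : Dec i pp pm w 1 A B C) (hw : (z : Γ(X.left, ⊤)) = 1 + H.lam X * w) : H.avPt hunit z = B := by
  obtain ⟨C', h'⟩ := H.avPt_spec hunit z
  rw [H.par_eq hunit z hw] at h'
  exact (H.unique h' h).2.1

theorem avPt_comp {X X' : Over S} (c : X' ⟶ X) (z : Γ(X.left, ⊤)ˣ) :
    c ≫ H.avPt hunit z = H.avPt hunit (Units.map c.left.appTop.hom.toMonoidHom z) := by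
  obtain ⟨C, h⟩ := H.avPt_spec hunit z
  have h' := dec_comp c h
  rw [map_one] at h'
  refine (H.avPt_eq hunit h' ?_).symm
  have e := congrArg c.left.appTop (H.lam_mul_par hunit z)
  rw [map_add, map_one, map_mul, H.lam_comp] at e
  exact e.symm

theorem avPt_mul {X : Over S} (z₁ z₂ : Γ(X.left, ⊤)ˣ) :
    H.avPt hunit (z₁ * z₂) = H.avPt hunit z₁ * H.avPt hunit z₂ := by
  obtain ⟨C₁, h₁⟩ := H.avPt_spec hunit z₁
  obtain ⟨C₂, h₂⟩ := H.avPt_spec hunit z₂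
  have h₂' := H.scale z₁ h₂
  rw [_root_.mul_one] at h₂'
  rw [H.avPt_eq hunit (H.mulL h₁ h₂') ?_, H.comm]
  rw [Units.val_mul]
  linear_combination -(H.lam_mul_par hunit z₁) - (z₁ : Γ(X.left, ⊤)) * H.lam_mul_par hunit z₂

theorem beta_of_unit (X : Over S) [IsAffine X.left] (z : Γ(X.left, ⊤)ˣ)
    (hz : IsUnit ((z : Γ(X.left, ⊤)) - 1)) :
    Red.gmFn (H.avPt hunit z ≫ α⁻¹) * ((z : Γ(X.left, ⊤)) * (z : Γ(X.left, ⊤))) = 1 := by
  obtain ⟨C, h⟩ := H.avPt_spec hunit z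
  obtain ⟨X', c, t, hX', hc, -, hu, -⟩ := exists_generic X
    ![Polynomial.X, 1 + Polynomial.X, Polynomial.C (z : Γ(X.left, ⊤)) +
      Polynomial.C (H.lam X * H.par hunit z) * Polynomial.X]
    (fun k => by
      fin_cases k
      · exact ⟨1, by simp⟩
      · exact ⟨0, by simp⟩
      · exact ⟨0, by simp⟩)
  have h0 := hu 0; have h1 := hu 1; have h2 := hu 2
  simp at h0 h1 h2
  obtain ⟨s, hs⟩ := h0
  obtain ⟨s1, hs1⟩ := h1
  obtain ⟨L, hL⟩ := h2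
  obtain ⟨w, hw⟩ : IsUnit (H.par hunit z) := hz.mul (Units.isUnit _)
  let u' : Γ(X'.left, ⊤)ˣ := Units.map c.left.appTop.hom.toMonoidHom w
  let z' : Γ(X'.left, ⊤)ˣ := Units.map c.left.appTop.hom.toMonoidHom z
  have hz' : (z' : Γ(X'.left, ⊤)) = 1 + H.lam X' * (u' : Γ(X'.left, ⊤)) := by
    have e := congrArg c.left.appTop (H.lam_mul_par hunit z)
    rw [map_add, map_one, map_mul, H.lam_comp, ← hw] at e
    exact e.symm
  have h' := dec_comp c h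
  rw [map_one, ← hw] at h'
  have hL' : (L : Γ(X'.left, ⊤)) =
      1 + H.lam X' * (u' : Γ(X'.left, ⊤)) * (1 + (s : Γ(X'.left, ⊤))) := by
    rw [hL, ← hw, H.lam_comp, hs]
    change (z' : Γ(X'.left, ⊤)) + H.lam X' * (u' : Γ(X'.left, ⊤)) * t = _
    rw [hz']; ring
  have key := H.key_eq (H.good hunit X') u' s s1 z' z' L L hz'
    (by rw [H.mu_eq_lam hunit]; exact hz') (by rw [hs1, hs]) hL' (by rw [hL', hz']; ring) h'
  refine fn_eq_of_epi hc ?_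
  rw [map_one, map_mul, ← Gm.gmFn_comp, ← Category.assoc]
  apply L.isUnit.mul_right_inj.1
  rw [map_mul]
  change _ * (_ * ((z' : Γ(X'.left, ⊤)) * (z' : Γ(X'.left, ⊤)))) = _
  linear_combination key

theorem avPt_sq {X : Over S} (z : Γ(X.left, ⊤)ˣ) :
    Red.gmFn (H.avPt hunit z ≫ α) = (z : Γ(X.left, ⊤)) * (z : Γ(X.left, ⊤)) := by
  have key : ∀ (X : Over S) [IsAffine X.left] (z : Γ(X.left, ⊤)ˣ),
      IsUnit ((z : Γ(X.left, ⊤)) - 1) →
      Red.gmFn (H.avPt hunit z ≫ α) = (z : Γ(X.left, ⊤)) * (z : Γ(X.left, ⊤)) := fun X _ z hz => by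
    have h := H.beta_of_unit hunit X z hz
    rw [GrpObj.comp_inv] at h
    have h' := Gm.gmFn_mul_gmFn_inv (H.avPt hunit z ≫ α)
    linear_combination ((z : Γ(X.left, ⊤)) * (z : Γ(X.left, ⊤))) * h' -
      Red.gmFn (H.avPt hunit z ≫ α) * h
  refine fn_ext_affine fun X₁ c₁ hX₁ => ?_
  rw [← Gm.gmFn_comp, ← Category.assoc, H.avPt_comp hunit, map_mul]
  change Red.gmFn (H.avPt hunit (Units.map c₁.left.appTop.hom.toMonoidHom z) ≫ α) =
    ((Units.map c₁.left.appTop.hom.toMonoidHom z : Γ(X₁.left, ⊤)ˣ) : Γ(X₁.left, ⊤)) *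
      ((Units.map c₁.left.appTop.hom.toMonoidHom z : Γ(X₁.left, ⊤)ˣ) : Γ(X₁.left, ⊤))
  generalize Units.map c₁.left.appTop.hom.toMonoidHom z = w
  haveI := hX₁
  obtain ⟨X', c, t, hX', hc, -, hu, -⟩ := exists_generic X₁
    ![Polynomial.X, Polynomial.X - 1, Polynomial.C (w : Γ(X₁.left, ⊤)) - Polynomial.X]
    (fun k => by
      fin_cases k
      · exact ⟨1, by simp⟩
      · exact ⟨1, by simp [Polynomial.coeff_one]⟩
      · exact ⟨1, by simp⟩)
  have h0 := hu 0; have h1 := hu 1; have h2 := hu 2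
  simp at h0 h1 h2
  obtain ⟨t₀, ht⟩ := h0
  haveI := hX'
  refine fn_eq_of_epi hc ?_
  rw [← Gm.gmFn_comp, ← Category.assoc, H.avPt_comp hunit, map_mul]
  change Red.gmFn (H.avPt hunit (Units.map c.left.appTop.hom.toMonoidHom w) ≫ α) =
    ((Units.map c.left.appTop.hom.toMonoidHom w : Γ(X'.left, ⊤)ˣ) : Γ(X'.left, ⊤)) *
      ((Units.map c.left.appTop.hom.toMonoidHom w : Γ(X'.left, ⊤)ˣ) : Γ(X'.left, ⊤))
  generalize hw : Units.map c.left.appTop.hom.toMonoidHom w = w'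
  have hw' : (w' : Γ(X'.left, ⊤)) = c.left.appTop (w : Γ(X₁.left, ⊤)) := by rw [← hw]; rfl
  rw [← hw'] at h2
  have h3 : IsUnit (((t₀⁻¹ * w' : Γ(X'.left, ⊤)ˣ) : Γ(X'.left, ⊤)) - 1) := by
    have : ((t₀⁻¹ * w' : Γ(X'.left, ⊤)ˣ) : Γ(X'.left, ⊤)) - 1 =
        (↑t₀⁻¹ : Γ(X'.left, ⊤)) * ((w' : Γ(X'.left, ⊤)) - t) := by
      rw [Units.val_mul, mul_sub, ← ht, Units.inv_mul]
    rw [this]; exact (Units.isUnit _).mul h2
  have hsplit : w' = t₀ * (t₀⁻¹ * w') := (mul_inv_cancel_left _ _).symm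
  have e1 := key X' t₀ (ht ▸ h1)
  have e2 := key X' _ h3
  rw [hsplit, H.avPt_mul hunit, MonObj.mul_comp _ _ α, Gm.gmFn_mul, e1, e2]
  simp only [Units.val_mul]
  ring

theorem avPt_beta {X : Over S} (z : Γ(X.left, ⊤)ˣ) :
    Red.gmFn (H.avPt hunit z ≫ α⁻¹) = (↑z⁻¹ : Γ(X.left, ⊤)) * (↑z⁻¹ : Γ(X.left, ⊤)) := by
  rw [GrpObj.comp_inv, RankOne.Sys.gmFn_inv_of _ (z * z) (by rw [H.avPt_sq hunit, Units.val_mul]),
    _root_.mul_inv, Units.val_mul]

theorem dec_units {X : Over S} (x y K : Γ(X.left, ⊤)ˣ)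
    (hK : (K : Γ(X.left, ⊤)) = 1 + H.lam X * (x : Γ(X.left, ⊤)) * (y : Γ(X.left, ⊤))) :
    Dec i pp pm (x : Γ(X.left, ⊤)) (y : Γ(X.left, ⊤)) ((y : Γ(X.left, ⊤)) * (↑K⁻¹ : Γ(X.left, ⊤)))
      (H.avPt hunit K) ((x : Γ(X.left, ⊤)) * (↑K⁻¹ : Γ(X.left, ⊤))) := by
  have hl : (K : Γ(X.left, ⊤)) = 1 + H.lam X * ((x * y : Γ(X.left, ⊤)ˣ) : Γ(X.left, ⊤)) := by
    rw [hK, Units.val_mul, _root_.mul_assoc]
  obtain ⟨B, h⟩ := H.dec_unit_one (H.good hunit X) (x * y) K K hl (by rw [H.mu_eq_lam hunit]; exact hl)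
  rw [H.avPt_eq hunit h hl]
  have h' := H.scale y⁻¹ h
  rw [_root_.inv_inv, _root_.mul_one,
    show (↑y⁻¹ : Γ(X.left, ⊤)) * ((x * y : Γ(X.left, ⊤)ˣ) : Γ(X.left, ⊤)) = x by
      rw [Units.val_mul]; linear_combination (x : Γ(X.left, ⊤)) * y.mul_inv,
    show (↑y⁻¹ : Γ(X.left, ⊤)) * (((x * y : Γ(X.left, ⊤)ˣ) : Γ(X.left, ⊤)) * (↑K⁻¹ : Γ(X.left, ⊤))) =
        (x : Γ(X.left, ⊤)) * (↑K⁻¹ : Γ(X.left, ⊤)) by
      rw [Units.val_mul]; linear_combination ((x : Γ(X.left, ⊤)) * (↑K⁻¹ : Γ(X.left, ⊤))) * y.mul_inv] at h'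
  exact h'

theorem dec_of_epi {X X' : Over S} {c : X' ⟶ X} (hc : Epi c.left) {x y A C : Γ(X.left, ⊤)} {B : X ⟶ T}
    (h : Dec i pp pm (c.left.appTop x) (c.left.appTop y) (c.left.appTop A) (c ≫ B) (c.left.appTop C)) :
    Dec i pp pm x y A B C := by
  refine RankOne.eq_of_epi hc ?_
  rw [MonObj.comp_mul, MonObj.comp_mul, MonObj.comp_mul, P_comp, P_comp, P_comp, P_comp, ← Category.assoc]
  exact h

theorem dec_half (X : Over S) [IsAffine X.left] (x : Γ(X.left, ⊤)ˣ) (y : Γ(X.left, ⊤)) (K : Γ(X.left, ⊤)ˣ)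
    (hK : (K : Γ(X.left, ⊤)) = 1 + H.lam X * (x : Γ(X.left, ⊤)) * y) :
    Dec i pp pm (x : Γ(X.left, ⊤)) y (y * (↑K⁻¹ : Γ(X.left, ⊤))) (H.avPt hunit K)
      ((x : Γ(X.left, ⊤)) * (↑K⁻¹ : Γ(X.left, ⊤))) := by
  obtain ⟨X', c, t, -, hc, -, hu, -⟩ := exists_generic X
    ![Polynomial.X, Polynomial.C y - Polynomial.X, 1 + Polynomial.C (H.lam X * (x : Γ(X.left, ⊤))) * Polynomial.X]
    (fun k => by
      fin_cases k
      · exact ⟨1, by simp⟩
      · exact ⟨1, by simp⟩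
      · exact ⟨0, by simp⟩)
  have h0 := hu 0; have h1 := hu 1; have h2 := hu 2
  simp at h0 h1 h2
  obtain ⟨y₁, e1⟩ := h0
  obtain ⟨y₂, e2⟩ := h1
  obtain ⟨K₁, e3⟩ := h2
  refine H.dec_of_epi hunit hc ?_
  let x' : Γ(X'.left, ⊤)ˣ := Units.map c.left.appTop.hom.toMonoidHom x
  let K' : Γ(X'.left, ⊤)ˣ := Units.map c.left.appTop.hom.toMonoidHom K
  have hK' : (K' : Γ(X'.left, ⊤)) = 1 + H.lam X' * (x' : Γ(X'.left, ⊤)) * c.left.appTop y := by
    have e := congrArg c.left.appTop hK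
    rw [map_add, map_one, map_mul, map_mul, H.lam_comp] at e
    exact e
  rw [H.lam_comp] at e3
  have d1 := H.dec_units hunit x' y₁ K₁ (by rw [e3, e1]; rfl)
  have d2 := H.dec_units hunit (x' * K₁⁻¹) y₂ (K' * K₁⁻¹) (by
    rw [Units.val_mul, Units.val_mul, hK', e2]
    have e3' : (K₁ : Γ(X'.left, ⊤)) = 1 + H.lam X' * (x' : Γ(X'.left, ⊤)) * t := e3
    linear_combination K₁.mul_inv - (↑K₁⁻¹ : Γ(X'.left, ⊤)) * e3')
  rw [Units.val_mul] at d2
  have d := H.mulR d1 d2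
  rw [H.avPt_beta hunit] at d
  have hy : (y₁ : Γ(X'.left, ⊤)) + (y₂ : Γ(X'.left, ⊤)) = c.left.appTop y := by rw [e1, e2]; ring
  rw [hy, ← H.avPt_mul hunit, mul_comm K' K₁⁻¹, mul_inv_cancel_left] at d
  simp only [_root_.mul_inv_rev, _root_.inv_inv, Units.val_mul] at d
  rw [H.avPt_comp hunit, map_mul, map_mul]
  change Dec i pp pm (x' : Γ(X'.left, ⊤)) (c.left.appTop y) (c.left.appTop y * (↑K'⁻¹ : Γ(X'.left, ⊤)))
    (H.avPt hunit K') ((x' : Γ(X'.left, ⊤)) * (↑K'⁻¹ : Γ(X'.left, ⊤)))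
  have e3' : (K₁ : Γ(X'.left, ⊤)) = 1 + H.lam X' * (x' : Γ(X'.left, ⊤)) * t := e3
  convert d using 1
  · apply (K'.isUnit.mul K₁.isUnit).mul_right_inj.1
    linear_combination (c.left.appTop y * (K₁ : Γ(X'.left, ⊤)) - (y₂ : Γ(X'.left, ⊤)) *
          ((K₁ : Γ(X'.left, ⊤)) * (↑K₁⁻¹ : Γ(X'.left, ⊤))) ^ 2) * K'.mul_inv
      - ((y₁ : Γ(X'.left, ⊤)) * (K' : Γ(X'.left, ⊤)) + (y₂ : Γ(X'.left, ⊤)) *
          ((K₁ : Γ(X'.left, ⊤)) * (↑K₁⁻¹ : Γ(X'.left, ⊤)) + 1)) * K₁.mul_inv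
      + c.left.appTop y * e3' - t * hK' - (K' : Γ(X'.left, ⊤)) * e1 - e2
  · linear_combination - ((x' : Γ(X'.left, ⊤)) * (↑K'⁻¹ : Γ(X'.left, ⊤))) * K₁.mul_inv

/-- The commutation formula. -/
theorem dec_main {X : Over S} (x y : Γ(X.left, ⊤)) (K : Γ(X.left, ⊤)ˣ)
    (hK : (K : Γ(X.left, ⊤)) = 1 + H.lam X * x * y) :
    Dec i pp pm x y (y * (↑K⁻¹ : Γ(X.left, ⊤))) (H.avPt hunit K) (x * (↑K⁻¹ : Γ(X.left, ⊤))) := by
  refine pt_ext_affine fun q => ?_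
  simp only [MonObj.comp_mul, P_comp, ← Category.assoc, H.avPt_comp hunit, map_mul]
  haveI : IsAffine (piece X q).left := inferInstanceAs (IsAffine (X.left.affineCover.X q))
  have hK₁ := congrArg (pieceHom X q).left.appTop hK
  rw [map_add, map_one, map_mul, map_mul, H.lam_comp] at hK₁
  change Dec i pp pm ((pieceHom X q).left.appTop x) ((pieceHom X q).left.appTop y)
    ((pieceHom X q).left.appTop y * (↑(Units.map (pieceHom X q).left.appTop.hom.toMonoidHom K)⁻¹ : Γ((piece X q).left, ⊤)))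
    (H.avPt hunit (Units.map (pieceHom X q).left.appTop.hom.toMonoidHom K))
    ((pieceHom X q).left.appTop x * (↑(Units.map (pieceHom X q).left.appTop.hom.toMonoidHom K)⁻¹ : Γ((piece X q).left, ⊤)))
  revert hK₁
  generalize (pieceHom X q).left.appTop x = x₁
  generalize (pieceHom X q).left.appTop y = y₁
  change ((Units.map (pieceHom X q).left.appTop.hom.toMonoidHom K : Γ((piece X q).left, ⊤)ˣ) : Γ((piece X q).left, ⊤)) = _ → _
  generalize Units.map (pieceHom X q).left.appTop.hom.toMonoidHom K = K₁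
  intro hK₁
  obtain ⟨X', c, t, hX', hc, -, hu, -⟩ := exists_generic (piece X q)
    ![Polynomial.X, Polynomial.C x₁ - Polynomial.X, 1 + Polynomial.C (H.lam (piece X q) * y₁) * Polynomial.X]
    (fun k => by
      fin_cases k
      · exact ⟨1, by simp⟩
      · exact ⟨1, by simp⟩
      · exact ⟨0, by simp⟩)
  have h0 := hu 0; have h1 := hu 1; have h2 := hu 2
  simp at h0 h1 h2
  obtain ⟨v, e1⟩ := h0
  obtain ⟨w, e2⟩ := h1
  obtain ⟨L, e3⟩ := h2
  haveI := hX'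
  refine H.dec_of_epi hunit hc ?_
  rw [H.avPt_comp hunit, map_mul, map_mul]
  let K' : Γ(X'.left, ⊤)ˣ := Units.map c.left.appTop.hom.toMonoidHom K₁
  have hK' : (K' : Γ(X'.left, ⊤)) = 1 + H.lam X' * c.left.appTop x₁ * c.left.appTop y₁ := by
    have e := congrArg c.left.appTop hK₁
    rw [map_add, map_one, map_mul, map_mul, H.lam_comp] at e
    exact e
  rw [H.lam_comp] at e3
  have d1 := H.dec_half hunit X' v (c.left.appTop y₁) L (by rw [e3, e1]; ring)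
  have d2 := H.dec_half hunit X' w (c.left.appTop y₁ * (↑L⁻¹ : Γ(X'.left, ⊤))) (K' * L⁻¹) (by
    rw [Units.val_mul, hK', e2]
    have e3' : (L : Γ(X'.left, ⊤)) = 1 + H.lam X' * c.left.appTop y₁ * t := e3
    linear_combination L.mul_inv - (↑L⁻¹ : Γ(X'.left, ⊤)) * e3')
  have d := H.mulL d1 d2
  rw [H.avPt_beta hunit] at d
  have hx : (w : Γ(X'.left, ⊤)) + (v : Γ(X'.left, ⊤)) = c.left.appTop x₁ := by rw [e1, e2]; ring
  rw [hx, ← H.avPt_mul hunit, inv_mul_cancel_right] at d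
  simp only [_root_.mul_inv_rev, _root_.inv_inv, Units.val_mul] at d
  change Dec i pp pm (c.left.appTop x₁) (c.left.appTop y₁) (c.left.appTop y₁ * (↑K'⁻¹ : Γ(X'.left, ⊤)))
    (H.avPt hunit K') (c.left.appTop x₁ * (↑K'⁻¹ : Γ(X'.left, ⊤)))
  have e3' : (L : Γ(X'.left, ⊤)) = 1 + H.lam X' * c.left.appTop y₁ * t := e3
  convert d using 1
  · linear_combination - (c.left.appTop y₁ * (↑K'⁻¹ : Γ(X'.left, ⊤))) * L.mul_inv
  · apply (K'.isUnit.mul L.isUnit).mul_right_inj.1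
    linear_combination (c.left.appTop x₁ * (L : Γ(X'.left, ⊤)) - (w : Γ(X'.left, ⊤)) *
          ((L : Γ(X'.left, ⊤)) * (↑L⁻¹ : Γ(X'.left, ⊤))) ^ 2) * K'.mul_inv
      - ((v : Γ(X'.left, ⊤)) * (K' : Γ(X'.left, ⊤)) + (w : Γ(X'.left, ⊤)) *
          ((L : Γ(X'.left, ⊤)) * (↑L⁻¹ : Γ(X'.left, ⊤)) + 1)) * L.mul_inv
      + c.left.appTop x₁ * e3' - t * hK' - (K' : Γ(X'.left, ⊤)) * e1 - e2

/-- Membership in the big cell forces `1 + λxy` to be a unit. -/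
theorem isUnit_of_cell {X : Over S} (x y : Γ(X.left, ⊤))
    (h : ∃ A B C, Dec i pp pm x y A B C) : IsUnit (1 + H.lam X * x * y) := by
  refine isUnit_of_points _ fun p => ?_
  rw [map_add, map_one, map_mul, map_mul, H.lam_comp]
  obtain ⟨A, B, C, hd⟩ := h
  have hd' := dec_comp (ptHom X p) hd
  revert hd'
  generalize (ptHom X p).left.appTop A = A'
  generalize ptHom X p ≫ B = B'
  generalize (ptHom X p).left.appTop C = C'
  generalize (ptHom X p).left.appTop x = x'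
  generalize (ptHom X p).left.appTop y = y'
  intro hd'
  haveI : IsAffine (ptObj X p).left := inferInstanceAs (IsAffine (Spec (X.left.residueField p)))
  have hk := isField_ptObj X p
  refine FEq.isUnit_of_ne_zero _ hk fun hK => ?_
  have := hk.nontrivial
  have hxy : IsUnit (H.lam (ptObj X p) * x' * y') := by
    rw [eq_neg_of_add_eq_zero_right hK]; exact isUnit_one.neg
  obtain ⟨x₀, rfl⟩ := (IsUnit.mul_iff.1 (IsUnit.mul_iff.1 hxy).1).2
  obtain ⟨y₀, rfl⟩ := (IsUnit.mul_iff.1 hxy).2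
  have h1 := H.scale y₀ hd'
  rw [Units.inv_mul] at h1
  obtain ⟨X', c, t, hX', -, -, hu, hinj⟩ := exists_generic (ptObj X p)
    ![Polynomial.X, 1 + Polynomial.C (H.lam (ptObj X p) * ((y₀ : Γ(_, ⊤)) * C')) * Polynomial.X]
    (fun k => by
      fin_cases k
      · exact ⟨1, by simp⟩
      · exact ⟨0, by simp⟩)
  have g0 := hu 0; have g1 := hu 1
  simp at g0 g1
  obtain ⟨s, e1⟩ := g0
  obtain ⟨L, e2⟩ := g1
  haveI := hX'
  rw [H.lam_comp] at e2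
  have h1' := dec_comp c h1
  rw [map_one] at h1'
  have h2 := H.dec_main hunit (c.left.appTop ((y₀ : Γ((ptObj X p).left, ⊤)) * C')) (s : Γ(X'.left, ⊤)) L
    (by rw [e2, e1, map_mul])
  have h3 := H.mulR h1' h2
  have hK' := congrArg c.left.appTop hK
  rw [map_add, map_one, map_mul, map_mul, H.lam_comp, map_zero] at hK'
  have h4 := H.dec_main hunit (c.left.appTop ((y₀ : Γ((ptObj X p).left, ⊤)) * (x₀ : Γ((ptObj X p).left, ⊤))))
    (1 + (s : Γ(X'.left, ⊤))) (-s) (by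
      rw [Units.val_neg, map_mul]
      linear_combination (-1 - (s : Γ(X'.left, ⊤))) * hK')
  obtain ⟨eA, -, -⟩ := H.unique h3 h4
  rw [Category.assoc, Gm.gmFn_comp, inv_neg, Units.val_neg] at eA
  generalize hb : Red.gmFn (B' ≫ α⁻¹) = β at eA
  generalize ha : (↑y₀⁻¹ : Γ((ptObj X p).left, ⊤)) * A' = a at eA
  generalize hc' : (y₀ : Γ((ptObj X p).left, ⊤)) * C' = cc at eA e2 h2
  let l := H.lam (ptObj X p) * cc
  have hid : ((1 + Polynomial.X) * (1 + Polynomial.C l * Polynomial.X) +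
      Polynomial.C a * Polynomial.X * (1 + Polynomial.C l * Polynomial.X) +
      Polynomial.C β * Polynomial.X ^ 2).eval₂ c.left.appTop.hom t = 0 := by
    simp [l, H.lam_comp]
    have e2' : (L : Γ(X'.left, ⊤)) = 1 + H.lam X' * c.left.appTop cc * t := by rw [e2]; simp [hc'.symm]
    linear_combination (t * (L : Γ(X'.left, ⊤))) * eA
      - (L : Γ(X'.left, ⊤)) * ((1 + (s : Γ(X'.left, ⊤))) * (↑s⁻¹ : Γ(X'.left, ⊤))) * e1.symm
      - (L : Γ(X'.left, ⊤)) * (1 + (s : Γ(X'.left, ⊤))) * s.mul_inv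
      - (t * c.left.appTop β * (s : Γ(X'.left, ⊤))) * L.mul_inv
      + (-(L : Γ(X'.left, ⊤)) - c.left.appTop β * t) * e1
      - (1 + t + c.left.appTop a * t) * e2'
  have h0 := hinj hk.isDomain _ hid
  have := congrArg (fun q => Polynomial.coeff q 0) h0
  simp [Polynomial.mul_coeff_zero] at this

end Groth.Agent.H82.BigCell.Hyp
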