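import Groth.Agent.H82.RankOne
import Mathlib.Algebra.DualNumber
import Mathlib.RingTheory.Nilpotent.Basic
import Mathlib.AlgebraicGeometry.ResidueField
import Mathlib.RingTheory.Spectrum.Prime.Topology
import Mathlib.RingTheory.RingHom.FaithfullyFlat
import Mathlib.RingTheory.Polynomial.Basic
import Mathlib.RingTheory.Localization.Away.Basic

/-!
# Test objects over a base: affine extensions, points, dual numbers
-/

set_option autoImplicit false
universe u

open CategoryTheory MonoidalCategory CartesianMonoidalCategory MonObj GrpObj AlgebraicGeometry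
open Groth.Agent.Lib.RedPts

namespace Groth.Agent.H82.BigCell

variable {S : Scheme.{u}}

theorem fn_eq_of_epi {X X' : Over S} {c : X' ⟶ X} (hc : Epi c.left) {a b : Γ(X.left, ⊤)}
    (h : c.left.appTop a = c.left.appTop b) : a = b := by
  have := RankOne.eq_of_epi (G := Red.Ga S) hc (g := Ga.gaPt a) (h := Ga.gaPt b)
    (Ga.gaFn_injective (by rw [Ga.gaFn_comp, Ga.gaFn_comp, Ga.gaFn_gaPt, Ga.gaFn_gaPt, h]))
  rw [← Ga.gaFn_gaPt a, ← Ga.gaFn_gaPt b, this]

/-- An open immersion piece of an affine cover as an object over the base. -/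
noncomputable abbrev piece (X : Over S) (j : X.left.affineCover.I₀) : Over S :=
  Over.mk (X.left.affineCover.f j ≫ X.hom)

/-- The inclusion of a piece of the affine cover. -/
noncomputable abbrev pieceHom (X : Over S) (j : X.left.affineCover.I₀) : piece X j ⟶ X :=
  Over.homMk (X.left.affineCover.f j) rfl

theorem pt_ext_affine {Y X : Over S} {g h : X ⟶ Y}
    (e : ∀ j, pieceHom X j ≫ g = pieceHom X j ≫ h) : g = h :=
  Over.OverMorphism.ext (X.left.affineCover.hom_ext _ _ fun j => congrArg Over.Hom.left (e j))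

theorem fn_ext_affine {X : Over S} {a b : Γ(X.left, ⊤)}
    (h : ∀ (X' : Over S) (c : X' ⟶ X) (_ : IsAffine X'.left), c.left.appTop a = c.left.appTop b) : a = b := by
  have : Ga.gaPt (X := X) a = Ga.gaPt b := pt_ext_affine fun j => Ga.gaFn_injective (by
    rw [Ga.gaFn_comp, Ga.gaFn_comp, Ga.gaFn_gaPt, Ga.gaFn_gaPt]
    exact h _ _ (inferInstanceAs (IsAffine (X.left.affineCover.X j))))
  rw [← Ga.gaFn_gaPt a, ← Ga.gaFn_gaPt b, this]

theorem isUnit_of_range_subset {X X' : Over S} (c : X' ⟶ X) (a : Γ(X.left, ⊤))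
    (h : Set.range c.left ⊆ (X.left.basicOpen a : Set X.left)) : IsUnit (c.left.appTop a) := by
  refine X'.left.toRingedSpace.isUnit_of_isUnit_germ ⊤ _ fun x hx => ?_
  refine (X'.left.mem_basicOpen (c.left.appTop a) x hx).1 ?_
  rw [← Scheme.preimage_basicOpen_top]
  exact h ⟨x, rfl⟩

theorem range_subset_basicOpen {X X' : Over S} (c : X' ⟶ X) (a : Γ(X.left, ⊤))
    (h : IsUnit (c.left.appTop a)) : Set.range c.left ⊆ (X.left.basicOpen a : Set X.left) := by
  rintro _ ⟨x, rfl⟩
  change x ∈ c.left ⁻¹ᵁ X.left.basicOpen a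
  rw [Scheme.preimage_basicOpen_top, Scheme.basicOpen_of_isUnit _ h]
  trivial

/-- The residue field at a point as an object over the base. -/
noncomputable abbrev ptObj (X : Over S) (p : X.left) : Over S :=
  Over.mk (X.left.fromSpecResidueField p ≫ X.hom)

/-- The inclusion of a point. -/
noncomputable abbrev ptHom (X : Over S) (p : X.left) : ptObj X p ⟶ X :=
  Over.homMk (X.left.fromSpecResidueField p) rfl

theorem mem_range_ptHom (X : Over S) (p : X.left) : p ∈ Set.range (ptHom X p).left := by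
  change p ∈ Set.range (X.left.fromSpecResidueField p)
  rw [Scheme.range_fromSpecResidueField]; exact rfl

theorem isField_ptObj (X : Over S) (p : X.left) : IsField Γ((ptObj X p).left, ⊤) :=
  MulEquiv.isField (Field.toIsField (X.left.residueField p))
    (Scheme.ΓSpecIso (X.left.residueField p)).commRingCatIsoToRingEquiv.toMulEquiv

theorem isUnit_of_points {X : Over S} (a : Γ(X.left, ⊤))
    (h : ∀ p : X.left, IsUnit ((ptHom X p).left.appTop a)) : IsUnit a := by
  refine X.left.toRingedSpace.isUnit_of_isUnit_germ ⊤ a fun p hp => ?_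
  exact (X.left.mem_basicOpen a p hp).1 (range_subset_basicOpen _ a (h p) (mem_range_ptHom X p))

/-! ### Affine extensions -/

section ext

variable (X : Over S) [IsAffine X.left] {R : Type u} [CommRing R] (φ : Γ(X.left, ⊤) →+* R)

/-- `Spec R` over `S` through an affine `S`-scheme. -/
noncomputable abbrev ext : Over S :=
  Over.mk (Spec.map (CommRingCat.ofHom φ) ≫ X.left.isoSpec.inv ≫ X.hom)

/-- Its structure morphism to the affine scheme. -/
noncomputable def extHom : ext X φ ⟶ X :=
  Over.homMk (Spec.map (CommRingCat.ofHom φ) ≫ X.left.isoSpec.inv) (Category.assoc _ _ _)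

/-- Its functions. -/
noncomputable def fn : R ≃+* Γ((ext X φ).left, ⊤) :=
  (Scheme.ΓSpecIso (CommRingCat.of R)).symm.commRingCatIsoToRingEquiv

theorem extHom_fn (a : Γ(X.left, ⊤)) : (extHom X φ).left.appTop a = fn X φ (φ a) := by
  change (Spec.map (CommRingCat.ofHom φ) ≫ X.left.isoSpec.inv).appTop a =
    (Scheme.ΓSpecIso (CommRingCat.of R)).inv ((CommRingCat.ofHom φ) a)
  have h : X.left.isoSpec.inv.appTop = (Scheme.ΓSpecIso Γ(X.left, ⊤)).inv := by
    have h1 : X.left.isoSpec.inv.appTop ≫ X.left.toSpecΓ.appTop = 𝟙 _ := by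
      rw [← Scheme.Hom.comp_appTop, ← Scheme.isoSpec_hom, Iso.hom_inv_id]; simp
    rw [Scheme.toSpecΓ_appTop] at h1
    exact (Iso.comp_hom_eq_id (Scheme.ΓSpecIso Γ(X.left, ⊤))).1 h1
  rw [Scheme.Hom.comp_appTop, h, ← CommRingCat.comp_apply (CommRingCat.ofHom φ),
    Scheme.ΓSpecIso_inv_naturality]
  rfl

instance : IsAffine (ext X φ).left := inferInstanceAs (IsAffine (Spec (CommRingCat.of R)))

variable {X} {R' : Type u} [CommRing R'] {X' : Over S} [IsAffine X'.left] (φ' : Γ(X'.left, ⊤) →+* R')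

theorem isoSpec_inv_comp (c : X' ⟶ X) :
    X'.left.isoSpec.inv ≫ c.left = Spec.map c.left.appTop ≫ X.left.isoSpec.inv := by
  rw [Iso.inv_comp_eq, ← Category.assoc, Iso.eq_comp_inv]
  exact Scheme.toSpecΓ_naturality c.left

/-- A ring map between extensions compatible with a morphism gives a morphism. -/
noncomputable def extMap (c : X' ⟶ X) (ψ : R →+* R') (h : ψ.comp φ = φ'.comp c.left.appTop.hom) :
    ext X' φ' ⟶ ext X φ :=
  Over.homMk (Spec.map (CommRingCat.ofHom ψ)) (by
    change Spec.map _ ≫ Spec.map _ ≫ _ = Spec.map _ ≫ _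
    rw [← Over.w c, ← Category.assoc X'.left.isoSpec.inv, isoSpec_inv_comp, ← Category.assoc,
      ← Spec.map_comp, ← CommRingCat.ofHom_comp, h]
    simp [Spec.map_comp])

theorem extMap_fn (c : X' ⟶ X) (ψ : R →+* R') (h : ψ.comp φ = φ'.comp c.left.appTop.hom) (r : R) :
    (extMap φ φ' c ψ h).left.appTop (fn X φ r) = fn X' φ' (ψ r) := by
  change (Spec.map (CommRingCat.ofHom ψ)).appTop ((Scheme.ΓSpecIso (CommRingCat.of R)).inv r) =
    (Scheme.ΓSpecIso (CommRingCat.of R')).inv ((CommRingCat.ofHom ψ) r)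
  rw [← CommRingCat.comp_apply (Scheme.ΓSpecIso _).inv, ← Scheme.ΓSpecIso_inv_naturality,
    CommRingCat.comp_apply]

theorem extMap_extHom (c : X' ⟶ X) (ψ : R →+* R') (h : ψ.comp φ = φ'.comp c.left.appTop.hom) :
    extMap φ φ' c ψ h ≫ extHom X φ = extHom X' φ' ≫ c := by
  ext
  change Spec.map _ ≫ Spec.map _ ≫ _ = (Spec.map _ ≫ _) ≫ c.left
  rw [Category.assoc, isoSpec_inv_comp, ← Category.assoc, ← Spec.map_comp, ← CommRingCat.ofHom_comp, h]
  simp [Spec.map_comp]

theorem surjective_extHom (h : Function.Surjective (PrimeSpectrum.comap φ)) :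
    Surjective (extHom X φ).left := by
  have : Surjective (Spec.map (CommRingCat.ofHom φ)) := ⟨h⟩
  change Surjective (Spec.map (CommRingCat.ofHom φ) ≫ X.left.isoSpec.inv)
  infer_instance

theorem epi_extHom (h : Function.Injective φ) {Y : Scheme.{u}} [IsAffine Y] (a b : X.left ⟶ Y)
    (e : (extHom X φ).left ≫ a = (extHom X φ).left ≫ b) : a = b := by
  refine ext_of_isAffine ?_
  have e' := congrArg Scheme.Hom.appTop e
  rw [Scheme.Hom.comp_appTop, Scheme.Hom.comp_appTop] at e'
  ext r
  refine h ((fn X φ).injective ?_)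
  rw [← extHom_fn, ← extHom_fn]
  exact congrArg (fun z => z.hom r) e'

theorem fn_ext_of_injective (h : Function.Injective φ) {a b : Γ(X.left, ⊤)}
    (e : (extHom X φ).left.appTop a = (extHom X φ).left.appTop b) : a = b := by
  rw [extHom_fn, extHom_fn] at e
  exact h ((fn X φ).injective e)

end ext

/-- Points of an affine extension. -/
theorem exists_toExt {X Y : Over S} [IsAffine X.left] {R : Type u} [CommRing R] (φ : Γ(X.left, ⊤) →+* R)
    (c : Y ⟶ X) (χ : R →+* Γ(Y.left, ⊤)) (h : χ.comp φ = c.left.appTop.hom) :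
    ∃ d : Y ⟶ ext X φ, d ≫ extHom X φ = c ∧ ∀ r, d.left.appTop (fn X φ r) = χ r := by
  have hf : Y.left.toSpecΓ ≫ Spec.map (CommRingCat.ofHom χ) ≫ Spec.map (CommRingCat.ofHom φ) ≫
      X.left.isoSpec.inv = c.left := by
    rw [← Spec.map_comp_assoc, ← CommRingCat.ofHom_comp, h, ← Category.assoc, Iso.comp_inv_eq]
    exact (Scheme.toSpecΓ_naturality c.left).symm
  refine ⟨Over.homMk (Y.left.toSpecΓ ≫ Spec.map (CommRingCat.ofHom χ)) ?_, ?_, fun r => ?_⟩
  · change (_ ≫ _) ≫ Spec.map _ ≫ _ ≫ X.hom = _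
    simp only [Category.assoc]
    rw [reassoc_of% hf, Over.w c]
  · ext
    change (_ ≫ _) ≫ Spec.map _ ≫ _ = _
    simp only [Category.assoc]
    exact hf
  · change (Y.left.toSpecΓ ≫ Spec.map (CommRingCat.ofHom χ)).appTop
      ((Scheme.ΓSpecIso (CommRingCat.of R)).inv r) = _
    rw [Scheme.Hom.comp_appTop, CommRingCat.comp_apply, ← CommRingCat.comp_apply (Scheme.ΓSpecIso _).inv,
      ← Scheme.ΓSpecIso_inv_naturality, CommRingCat.comp_apply, Scheme.toSpecΓ_appTop,
      ← CommRingCat.comp_apply (Scheme.ΓSpecIso _).inv, Iso.inv_hom_id]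
    rfl

/-! ### Generic auxiliary variable -/

theorem faithfullyFlat_away {A : Type u} [CommRing A] (f : Polynomial A)
    (hf : ∀ (p : Ideal A) [p.IsPrime], f.map (Ideal.Quotient.mk p) ≠ 0) :
    ((algebraMap (Polynomial A) (Localization.Away f)).comp Polynomial.C).FaithfullyFlat := by
  rw [RingHom.FaithfullyFlat.iff_flat_and_comap_surjective]
  refine ⟨?_, fun p => ?_⟩
  · refine RingHom.Flat.comp ?_ ?_
    · exact RingHom.flat_algebraMap_iff.2 (inferInstanceAs (Module.Flat A (Polynomial A)))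
    · exact RingHom.flat_algebraMap_iff.2 (IsLocalization.flat (Localization.Away f) (Submonoid.powers f))
  · let Q : Ideal (Polynomial A) := RingHom.ker (Polynomial.mapRingHom (Ideal.Quotient.mk p.asIdeal))
    have hQ : Q.IsPrime := RingHom.ker_isPrime _
    have hfQ : f ∉ Q := fun h => hf p.asIdeal h
    have hmem : (⟨Q, hQ⟩ : PrimeSpectrum (Polynomial A)) ∈
        Set.range (PrimeSpectrum.comap (algebraMap (Polynomial A) (Localization.Away f))) := by
      rw [PrimeSpectrum.localization_away_comap_range (Localization.Away f) f]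
      exact hfQ
    obtain ⟨q, hq⟩ := hmem
    refine ⟨q, ?_⟩
    rw [PrimeSpectrum.comap_comp_apply, hq]
    ext a
    simp [Q, Ideal.mem_comap, Ideal.Quotient.eq_zero_iff_mem]

theorem generic_hyp {A : Type u} [CommRing A] {idx : Type} [Fintype idx] (q : idx → Polynomial A)
    (hq : ∀ i, ∃ n, IsUnit ((q i).coeff n)) (p : Ideal A) [p.IsPrime] :
    (∏ i, q i).map (Ideal.Quotient.mk p) ≠ 0 := by
  rw [Polynomial.map_prod, Finset.prod_ne_zero_iff]
  intro i _ h
  obtain ⟨n, hn⟩ := hq i
  have h2 := congrArg (fun z => Polynomial.coeff z n) h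
  simp only [Polynomial.coeff_map, Polynomial.coeff_zero] at h2
  exact (hn.map (Ideal.Quotient.mk p)).ne_zero h2

theorem exists_away {A : Type u} [CommRing A] (f : Polynomial A)
    (hf : ∀ (p : Ideal A) [p.IsPrime], f.map (Ideal.Quotient.mk p) ≠ 0) :
    ∃ (R : Type u) (_ : CommRing R) (φ : A →+* R) (t : R), φ.FaithfullyFlat ∧ IsUnit (f.eval₂ φ t) ∧
      (IsDomain A → ∀ p : Polynomial A, p.eval₂ φ t = 0 → p = 0) := by
  let j := algebraMap (Polynomial A) (Localization.Away f)
  have hj : ∀ p, p.eval₂ (j.comp Polynomial.C) (j Polynomial.X) = j p := fun p => by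
    rw [← Polynomial.hom_eval₂, Polynomial.eval₂_C_X]
  refine ⟨Localization.Away f, inferInstance, j.comp Polynomial.C, j Polynomial.X,
    faithfullyFlat_away f hf, ?_, fun hd p hp => ?_⟩
  · rw [hj]
    exact IsLocalization.map_units (Localization.Away f) (⟨f, Submonoid.mem_powers f⟩ : Submonoid.powers f)
  · have hne : f ≠ 0 := fun h => hf (⊥ : Ideal A) (by subst h; exact Polynomial.map_zero _)
    refine IsLocalization.injective (Localization.Away f) (powers_le_nonZeroDivisors_of_noZeroDivisors hne) ?_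
    rw [map_zero, ← hj]
    exact hp

theorem exists_generic_aux (X : Over S) [IsAffine X.left] (f : Polynomial Γ(X.left, ⊤))
    (hf : ∀ (p : Ideal Γ(X.left, ⊤)) [p.IsPrime], f.map (Ideal.Quotient.mk p) ≠ 0) :
    ∃ (X' : Over S) (c : X' ⟶ X) (t : Γ(X'.left, ⊤)), IsAffine X'.left ∧ Epi c.left ∧ Surjective c.left ∧
      IsUnit (f.eval₂ c.left.appTop.hom t) ∧
      (IsDomain Γ(X.left, ⊤) → ∀ p : Polynomial Γ(X.left, ⊤), p.eval₂ c.left.appTop.hom t = 0 → p = 0) := by
  obtain ⟨R, _, φ, t, hff, hu, hinj⟩ := exists_away f hf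
  obtain ⟨hfl, hsu⟩ : Flat (Spec.map (CommRingCat.ofHom φ)) ∧ Surjective (Spec.map (CommRingCat.ofHom φ)) :=
    (flat_and_surjective_SpecMap_iff _).2 hff
  have he : (extHom X φ).left = Spec.map (CommRingCat.ofHom φ) ≫ X.left.isoSpec.inv := by
    simp only [extHom, Over.homMk_left]
  have h1 : Flat (extHom X φ).left := by rw [he]; infer_instance
  have h2 : Surjective (extHom X φ).left := by rw [he]; infer_instance
  have hev : ∀ p : Polynomial Γ(X.left, ⊤),
      p.eval₂ (extHom X φ).left.appTop.hom (fn X φ t) = fn X φ (p.eval₂ φ t) := fun p => by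
    refine Eq.trans ?_ (Polynomial.hom_eval₂ p φ (fn X φ).toRingHom t).symm
    congr 1
    exact RingHom.ext fun a => extHom_fn X φ a
  refine ⟨ext X φ, extHom X φ, fn X φ t, inferInstance, Flat.epi_of_flat_of_surjective _, h2, ?_, ?_⟩
  · rw [hev]; exact IsUnit.map (fn X φ) hu
  · intro hd p hp
    exact hinj hd p ((fn X φ).injective ((hev p).symm.trans (hp.trans (map_zero _).symm)))

/-- A faithfully flat extension by a variable making finitely many polynomials units; it is injective
on polynomials over a domain. -/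
theorem exists_generic (X : Over S) [IsAffine X.left] {idx : Type} [Fintype idx]
    (q : idx → Polynomial Γ(X.left, ⊤)) (hq : ∀ i, ∃ n, IsUnit ((q i).coeff n)) :
    ∃ (X' : Over S) (c : X' ⟶ X) (t : Γ(X'.left, ⊤)), IsAffine X'.left ∧ Epi c.left ∧ Surjective c.left ∧
      (∀ i, IsUnit ((q i).eval₂ c.left.appTop.hom t)) ∧
      (IsDomain Γ(X.left, ⊤) → ∀ p : Polynomial Γ(X.left, ⊤), p.eval₂ c.left.appTop.hom t = 0 → p = 0) := by
  obtain ⟨X', c, t, h1, h2, h3, h4, h5⟩ :=
    exists_generic_aux X (∏ i, q i) (fun p _ => generic_hyp q hq p)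
  refine ⟨X', c, t, h1, h2, h3, fun i => ?_, h5⟩
  rw [Polynomial.eval₂_finsetProd] at h4
  exact IsUnit.prod_iff.1 h4 i (Finset.mem_univ i)

theorem coeff_one_add {A : Type u} [CommRing A] (r : A) (n : ℕ) :
    (1 + Polynomial.C r * Polynomial.X ^ (n + 1)).coeff 0 = 1 := by
  simp

/-! ### Dual numbers -/

section dual

variable (X : Over S) [IsAffine X.left]

/-- The inclusion of constants. -/
noncomputable abbrev inl : Γ(X.left, ⊤) →+* DualNumber Γ(X.left, ⊤) := TrivSqZeroExt.inlHom _ _

/-- `X[ε]`. -/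
noncomputable abbrev dual : Over S := ext X (inl X)

/-- The function `a + bε`. -/
noncomputable def dfn (a b : Γ(X.left, ⊤)) : Γ((dual X).left, ⊤) :=
  fn X (inl X) (TrivSqZeroExt.inl a + TrivSqZeroExt.inr b)

theorem dfn_add (a b a' b' : Γ(X.left, ⊤)) : dfn X a b + dfn X a' b' = dfn X (a + a') (b + b') := by
  rw [dfn, dfn, dfn, ← map_add]; congr 1; ext <;> simp

theorem dfn_mul (a b a' b' : Γ(X.left, ⊤)) :
    dfn X a b * dfn X a' b' = dfn X (a * a') (a * b' + b * a') := by
  rw [dfn, dfn, dfn, ← map_mul]; congr 1; ext <;> simp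

theorem dfn_one : dfn X 1 0 = 1 := by
  rw [dfn, ← map_one (fn X (inl X))]; congr 1; ext <;> simp

theorem extHom_dual (a : Γ(X.left, ⊤)) : (extHom X (inl X)).left.appTop a = dfn X a 0 := by
  rw [extHom_fn, dfn]; congr 1; ext <;> simp

theorem dfn_inj {a b a' b' : Γ(X.left, ⊤)} (h : dfn X a b = dfn X a' b') : a = a' ∧ b = b' := by
  have h' := (fn X (inl X)).injective h
  exact ⟨by simpa using congrArg TrivSqZeroExt.fst h', by simpa using congrArg TrivSqZeroExt.snd h'⟩

theorem dfn_surjective (z : Γ((dual X).left, ⊤)) : ∃ a b, z = dfn X a b := by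
  obtain ⟨w, rfl⟩ := (fn X (inl X)).surjective z
  exact ⟨w.fst, w.snd, congrArg _ (by ext <;> simp)⟩

/-- The zero section. -/
noncomputable def zeroSec : ext X (RingHom.id Γ(X.left, ⊤)) ⟶ dual X :=
  extMap (inl X) (RingHom.id _) (𝟙 X) (TrivSqZeroExt.fstHom Γ(X.left, ⊤) Γ(X.left, ⊤) Γ(X.left, ⊤)).toRingHom
    (by ext; simp)

theorem zeroSec_fn (a b : Γ(X.left, ⊤)) :
    (zeroSec X).left.appTop (dfn X a b) = (extHom X (RingHom.id _)).left.appTop a := by
  rw [dfn, zeroSec, extMap_fn, extHom_fn]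
  simp

theorem surjective_zeroSec : Surjective (zeroSec X).left := by
  constructor
  change Function.Surjective (PrimeSpectrum.comap
    (TrivSqZeroExt.fstHom Γ(X.left, ⊤) Γ(X.left, ⊤) Γ(X.left, ⊤)).toRingHom)
  rw [← Set.range_eq_univ, range_comap_of_surjective _ _ (fun a => ⟨TrivSqZeroExt.inl a, by simp⟩)]
  refine Set.eq_univ_of_forall fun P z hz => P.isPrime.mem_of_pow_mem 2 ?_
  have h0 : TrivSqZeroExt.fst z = 0 := hz
  have : z ^ 2 = 0 := by rw [pow_two]; ext <;> simp [h0]
  rw [this]; exact P.asIdeal.zero_mem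

/-- Functoriality of `X[ε]` with a homothety on `ε`. -/
noncomputable def dualRingHom {X' : Over S} [IsAffine X'.left] (c : X' ⟶ X) (t : Γ(X'.left, ⊤)) :
    DualNumber Γ(X.left, ⊤) →+* DualNumber Γ(X'.left, ⊤) where
  toFun z := TrivSqZeroExt.inl (c.left.appTop z.fst) + TrivSqZeroExt.inr (t * c.left.appTop z.snd)
  map_one' := by ext <;> simp
  map_mul' a b := by ext <;> simp [map_mul, map_add] <;> ring
  map_zero' := by ext <;> simp
  map_add' a b := by ext <;> simp [map_add, mul_add]

/-- Functoriality of `X[ε]`. -/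
noncomputable def dualMap {X' : Over S} [IsAffine X'.left] (c : X' ⟶ X) (t : Γ(X'.left, ⊤)) :
    dual X' ⟶ dual X :=
  extMap (inl X) (inl X') c (dualRingHom X c t) (by ext <;> simp [dualRingHom])

theorem dualMap_fn {X' : Over S} [IsAffine X'.left] (c : X' ⟶ X) (t : Γ(X'.left, ⊤))
    (a b : Γ(X.left, ⊤)) :
    (dualMap X c t).left.appTop (dfn X a b) = dfn X' (c.left.appTop a) (t * c.left.appTop b) := by
  rw [dfn, dualMap, extMap_fn, dfn]
  congr 1
  ext <;> simp [dualRingHom]

end dual

/-! ### Gluing natural families of functions -/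

/-- A natural family of functions on affine objects comes from a global function. -/
theorem exists_global (d : ∀ (X : Over S), IsAffine X.left → Γ(X.left, ⊤))
    (hd : ∀ {X X' : Over S} (hX : IsAffine X.left) (hX' : IsAffine X'.left) (c : X' ⟶ X),
      c.left.appTop (d X hX) = d X' hX') :
    ∃ l : 𝟙_ (Over S) ⟶ Red.Ga S, ∀ (X : Over S) (hX : IsAffine X.left),
      Red.gaFn (toUnit X ≫ l) = d X hX := by
  let U : S.affineCover.I₀ → Over S := fun i => Over.mk (S.affineCover.f i)
  have hU : ∀ i, IsAffine (U i).left := fun i => inferInstanceAs (IsAffine (S.affineCover.X i))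
  have key : ∀ {W : Over S} (i : S.affineCover.I₀) (a : W ⟶ U i) (_ : IsAffine W.left),
      Red.gaFn (a ≫ Ga.gaPt (d (U i) (hU i))) = d W ‹_› := fun i a hW => by
    rw [Ga.gaFn_comp, Ga.gaFn_gaPt]; exact hd _ _ a
  let f : ∀ i, S.affineCover.X i ⟶ (Red.Ga S).left := fun i => (Ga.gaPt (X := U i) (d (U i) (hU i))).left
  have hf : ∀ i j, Limits.pullback.fst (S.affineCover.f i) (S.affineCover.f j) ≫ f i =
      Limits.pullback.snd _ _ ≫ f j := fun i j => by
    let W : Over S := Over.mk (Limits.pullback.fst (S.affineCover.f i) (S.affineCover.f j) ≫ S.affineCover.f i)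
    let a : W ⟶ U i := Over.homMk (Limits.pullback.fst _ _) rfl
    let b : W ⟶ U j := Over.homMk (Limits.pullback.snd _ _) Limits.pullback.condition.symm
    have : a ≫ Ga.gaPt (d (U i) (hU i)) = b ≫ Ga.gaPt (d (U j) (hU j)) := pt_ext_affine fun q =>
      Ga.gaFn_injective (by
        have hq : IsAffine (piece W q).left := inferInstanceAs (IsAffine (W.left.affineCover.X q))
        rw [← Category.assoc, ← Category.assoc, key i _ hq, key j _ hq])
    exact congrArg Over.Hom.left this
  let l : 𝟙_ (Over S) ⟶ Red.Ga S := Over.homMk (S.affineCover.glueMorphisms f hf)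
    (S.affineCover.hom_ext _ _ fun i => by
      rw [Scheme.Cover.ι_glueMorphisms_assoc]
      exact (Over.w (Ga.gaPt (X := U i) (d (U i) (hU i)))).trans (Category.comp_id _).symm)
  have hl : ∀ i, toUnit (U i) ≫ l = Ga.gaPt (d (U i) (hU i)) := fun i => by
    ext
    have h0 : (toUnit (U i)).left = S.affineCover.f i :=
      (Category.comp_id _).symm.trans (Over.w (toUnit (U i)))
    change (toUnit (U i)).left ≫ S.affineCover.glueMorphisms f hf = _
    rw [h0, Scheme.Cover.ι_glueMorphisms]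
  refine ⟨l, fun X hX => ?_⟩
  suffices h : toUnit X ≫ l = Ga.gaPt (d X hX) by rw [h, Ga.gaFn_gaPt]
  apply Over.OverMorphism.ext
  refine Scheme.Cover.hom_ext (S.affineCover.pullback₁ X.hom) _ _ fun (i : S.affineCover.I₀) => ?_
  let W : Over S := Over.mk (Limits.pullback.fst X.hom (S.affineCover.f i) ≫ X.hom)
  let b : W ⟶ X := Over.homMk (Limits.pullback.fst _ _) rfl
  let a : W ⟶ U i := Over.homMk (Limits.pullback.snd _ _) Limits.pullback.condition.symm
  have : b ≫ toUnit X ≫ l = b ≫ Ga.gaPt (d X hX) := pt_ext_affine fun q => Ga.gaFn_injective (by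
    have hq : IsAffine (piece W q).left := inferInstanceAs (IsAffine (W.left.affineCover.X q))
    have e : pieceHom W q ≫ b ≫ toUnit X ≫ l = (pieceHom W q ≫ a) ≫ Ga.gaPt (d (U i) (hU i)) := by
      rw [← hl, ← Category.assoc, ← Category.assoc, ← Category.assoc (pieceHom W q ≫ a)]
      congr 1
      exact toUnit_unique _ _
    rw [e, key i _ hq, ← Category.assoc, Ga.gaFn_comp, Ga.gaFn_gaPt, hd _ _ _])
  exact congrArg Over.Hom.left this

end Groth.Agent.H82.BigCell
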